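import Groth.Agent.Lib.JacBC22.Geom
import Groth.Agent.Lib.Riemann22.Poincare
import Groth.Agent.Lib.Riemann22.Principal
import Groth.Agent.Lib.CubeField.AmpleDescent
import Groth.Agent.Lib.SecDiv18.Basic
import Groth.Agent.Lib.JacBC22.ThetaClass
import Groth.Agent.Lib.JacBC22.Theta

/-!
# The theta class after an extension to an algebraic closure
-/

set_option autoImplicit false
set_option linter.style.haveILetI false
set_option linter.unusedSectionVars false
set_option backward.isDefEq.respectTransparency false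
set_option backward.isDefEq.respectTransparency.types false
set_option maxHeartbeats 1000000
set_option synthInstance.maxHeartbeats 200000

universe u

open CategoryTheory CategoryTheory.Limits AlgebraicGeometry TopologicalSpace Opposite MonoidalCategory
  CartesianMonoidalCategory MonObj
open scoped CategoryTheory.Obj

noncomputable section

namespace Groth.Agent.JacDeg22

open Groth.Agent.Abel10 (pc pc_comp pc_id)
open Groth.Agent.Abel10 Groth.Agent.PicRep20 Groth.Agent.JacPts22 Groth.Agent.Riemann22 Groth.Agent.JacBC22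

noncomputable local instance instLawThetaPull (Y : Scheme.{u}) : PicGrp.Law Y := M2.law Y

section Locus

open Groth.Agent.AbDual22 Groth.Agent.Torelli22

variable {k : Type u} [Field k] {C : Scheme.{u}} [C.Over (Spec (CommRingCat.of k))]
  [IsProper (C ↘ Spec (CommRingCat.of k))] [Smooth (C ↘ Spec (CommRingCat.of k))]
  [GeometricallyConnected (C ↘ Spec (CommRingCat.of k))] [IsIntegral C]
  [GeometricallyIrreducible (C ↘ Spec (CommRingCat.of k))] (hdim : topologicalKrullDim C = 1)
  {J : Over (Spec (CommRingCat.of k))} [GrpObj J] [IsCommMonObj J]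
  {ψ : (ModFun.PicDeg (C ↘ Spec (CommRingCat.of k)) 0).Hom ⊤ J}
  (hJ : Jac.IsJacobian (C ↘ Spec (CommRingCat.of k)) ⊤ J ψ)
  {σ : Spec (CommRingCat.of k) ⟶ C} (hσ : σ ≫ (C ↘ Spec (CommRingCat.of k)) = 𝟙 _)
  {j : Over.mk (C ↘ Spec (CommRingCat.of k)) ⟶ J} (hj : Jac.IsAbelJacobiAt (C ↘ Spec (CommRingCat.of k)) σ ψ j)

include hdim hσ hJ hj

set_option maxHeartbeats 2000000 in
/-- Over any field the theta locus is a translate of the image of the sum map. -/
theorem thetaLocus_eq_range₀ {n : ℕ} (hn : Curv2.genus k C = n + 1) {N : C.Modules} (hN : PicF.IsInvertible N)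
    (hNdeg : Curv2.deg k C N 1 = n) (hNc : PicGrp.cls N hN * ptCls hdim σ hσ ^ n = 1) :
    Jac.thetaLocus (C ↘ Spec (CommRingCat.of k)) 0 ψ N = Set.range (trMap j n 1).left.base := by
  obtain ⟨hJp, -, -, ξ, hξ, hψ⟩ := exists_fine _ hdim σ hσ J ψ hJ.coarse.2.1
  haveI := hJp
  let pC := C ↘ Spec (CommRingCat.of k)
  let c₁ := PicGrp.cls N hN * ptCls hdim σ hσ ^ n
  have hfd := fiber_dim pC hdim
  have hpow : ∀ (m : ℕ) (t), PicTan20.degCl pC (T₀ k) t
      (pc (pullback.fst pC (T₀ k).hom) (ptCls hdim σ hσ) ^ m).1 = -(m : ℤ) := fun m t => by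
    induction m with
    | zero => rw [pow_zero]; exact (deg_one₀ hdim t).trans (by simp)
    | succ m ih =>
      rw [pow_succ, PicTan20.degCl_mul _ hfd, ih,
        show ptCls hdim σ hσ = PicGrp.cls _ (isInvertible_point hdim σ hσ) from rfl,
        degCl_fst hdim (isInvertible_point hdim σ hσ), deg_point hdim σ hσ]
      push_cast
      ring
  have hc₁ : ∀ t, PicTan20.degCl pC (T₀ k) t (pc (pullback.fst pC (T₀ k).hom) c₁).1 = 0 := fun t => by
    rw [map_mul, map_pow, PicTan20.degCl_mul _ hfd, hpow, degCl_fst hdim hN, hNdeg]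
    ring
  let a : 𝟙_ (Over (Spec (CommRingCat.of k))) ⟶ J := classify hξ _ hc₁
  have ha1 : a = 1 := by
    have h1 : ∀ t, PicTan20.degCl pC (T₀ k) t (1 : PicLoc.PicSet (PicF.XT pC (T₀ k))).1 = 0 := fun t => deg_one₀ hdim t
    refine (classify_congr hξ (show _ = (1 : PicLoc.PicSet (PicF.XT pC (T₀ k))) by rw [show c₁ = 1 from hNc, map_one]) hc₁ h1).trans ?_
    exact JacPts22.classify_one hdim hξ hψ hJ h1
  rw [show (1 : 𝟙_ (Over (Spec (CommRingCat.of k))) ⟶ J) = a⁻¹ by rw [ha1, inv_one]]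
  -- the jump locus at a geometric point
  have main : ∀ (Ω : Type u) [Field Ω] [IsAlgClosed Ω] (t : Spec (CommRingCat.of Ω) ⟶ Spec (CommRingCat.of k))
      (L : (PicF.XT pC (Over.mk t)).Modules) (hL : (ModFun.PicDeg pC 0).ok (Over.mk t) L),
      (¬ Subsingleton (Coh.HH (PicF.XT pC (Over.mk t)) (CohB1.tensorMod L ((Scheme.Modules.pullback (pullback.fst pC t)).obj N)) 0)) ↔
        ∃ y : Over.mk t ⟶ pw k C n, y ≫ trMap j n a⁻¹ = ψ.app (Over.mk t) L trivial hL := by
    intro Ω _ _ t L hL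
    letI : (PicF.XT pC (Over.mk t)).Over (Spec (CommRingCat.of Ω)) := ⟨PicF.XTproj _ _⟩
    obtain ⟨h1, h2, h3, h4, h5, hdimK, -⟩ := setup t hdim
    haveI := h1; haveI := h2; haveI := h3; haveI := h4; haveI := h5
    obtain ⟨ψK, hJK, hψK⟩ := exists_jacobian_bc t hdim hdimK hξ hψ hJ
    obtain ⟨σK, hσK, jK, hfst, hjK, hflj⟩ := exists_abel_bc t hdim hdimK hξ hψ hψK hJK hσ hj
    haveI : IsSeparated (Red.bc t J).hom := inferInstanceAs (IsSeparated (pullback.snd J.hom t))
    let b := ψ.app (Over.mk t) L trivial hL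
    obtain ⟨z, hz⟩ : ∃ z, flPt t z = b := by
      obtain ⟨z, hz⟩ := DiagGL.fl_surjective t J ((Over.homMk (𝟙 _) (by simp) : (Over.map t).obj (T₀ Ω) ⟶ Over.mk t) ≫ b)
      refine ⟨z, ?_⟩
      show unit t ≫ DiagGL.fl t J z = b
      rw [hz]
      exact (Category.assoc _ _ _).symm.trans
        ((congrArg (· ≫ b) (Over.OverMorphism.ext (Category.id_comp _) : _ = 𝟙 (Over.mk t))).trans (Category.id_comp b))
    obtain ⟨zA, hzA⟩ : ∃ zA, flPt t zA = toBase t ≫ a := by
      obtain ⟨z, hz⟩ := DiagGL.fl_surjective t J ((Over.homMk (𝟙 _) (by simp) : (Over.map t).obj (T₀ Ω) ⟶ Over.mk t) ≫ toBase t ≫ a)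
      refine ⟨z, ?_⟩
      show unit t ≫ DiagGL.fl t J z = _
      rw [hz]
      exact (Category.assoc _ _ _).symm.trans
        ((congrArg (· ≫ toBase t ≫ a) (Over.OverMorphism.ext (Category.id_comp _) : _ = 𝟙 (Over.mk t))).trans (Category.id_comp _))
    have hsub : ∀ m : PicLoc.PicSet (Over.mk t).left, m = 1 := fun m => by
      obtain ⟨M, hM, rfl⟩ := PicGrp.exists_eq_cls m
      exact (PicGrp.cls_eq_one_iff _).2 (CubeField.nonempty_trivial_field _ hM)
    have ez : iota hdimK (Red.bc t J) ψK hJK z = famCls pC 0 hL := by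
      rw [iota_eq_pc t hdim hdimK hξ hψK hJK, hz]
      obtain ⟨m, hm⟩ := classify_spec hξ (famCls pC 0 hL) (degCl_famCls pC hdim 0 hL)
      rw [← hψ _ L hL, hsub m, map_one, _root_.mul_one] at hm
      exact hm.symm
    have eA : iota hdimK (Red.bc t J) ψK hJK zA =
        extCls t (PicGrp.cls N hN) * P hdimK ⟨σK, hσK⟩ ^ n := by
      rw [iota_eq_pc t hdim hdimK hξ hψK hJK, hzA, ← pc_map_map]
      obtain ⟨m, hm⟩ := classify_spec hξ _ hc₁
      have hm1 : m = 1 := by
        obtain ⟨M, hM, rfl⟩ := PicGrp.exists_eq_cls m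
        exact (PicGrp.cls_eq_one_iff _).2 (CubeField.nonempty_trivial_field _ hM)
      rw [hm1, map_one, _root_.mul_one] at hm
      show pc _ (pc (PicF.XTmap pC (classify hξ _ hc₁)) ξ) = _
      rw [← hm]
      refine (pc_toBase t c₁).trans ?_
      rw [map_mul, map_pow, extCls_pt hdim t hσ hj σK hσK hfst]
    have hLi : PicF.IsInvertible L := (M2.isInvertible_iff_isFinLocFreeOfRank_one L).2 hL.1.2
    have hNt := PicLoc.isInvertible_pullback (pullback.fst pC t) hN
    have hTi := M2.isInvertible_tensor hLi hNt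
    have e : cN hdimK σK hσK ψK hJK n (z * zA) =
        PicGrp.cls (Y := CK t C) (CohB1.tensorMod L ((Scheme.Modules.pullback (pullback.fst pC t)).obj N)) hTi := by
      rw [cN, map_mul, ez, eA, ← _root_.mul_assoc, mul_inv_cancel_right, ← AlgEquiv22.cls_tensor hLi hNt]
      exact congrArg₂ (· * ·) rfl (PicGrp.pullHom_cls _ _ _ _)
    haveI : IsProper (PicF.XT pC (Over.mk t) ↘ Spec (CommRingCat.of Ω)) := h1
    haveI : Module.Finite Ω (Coh.HH (CK t C) (CohB1.tensorMod L ((Scheme.Modules.pullback (pullback.fst pC t)).obj N)) 0) :=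
      CohFound.finite_HH_of_isProper (A := Ω) _ (CubeField.isCoh_of_isInvertible hTi) 0
    have hd := degC_cN hdimK σK hσK ψK hJK n (z * zA)
    have hpos : (¬ Subsingleton (Coh.HH (CK t C) (CohB1.tensorMod L ((Scheme.Modules.pullback (pullback.fst pC t)).obj N)) 0)) ↔
        0 < h0C Ω (cN hdimK σK hσK ψK hJK n (z * zA)) := by
      rw [e, h0C_cls (C := CK t C) hTi, Nat.pos_iff_ne_zero]
      exact not_congr (Module.finrank_zero_iff (R := Ω)).symm
    let Φ : (𝟙_ (Over (Spec (CommRingCat.of Ω))) ⟶ Red.bc t J) →* (Over.mk t ⟶ J) :=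
      MonoidHom.mk' (flPt t) (flPt_mul t)
    have hsum : ∀ (x : 𝟙_ (Over (Spec (CommRingCat.of Ω))) ⟶ pw Ω (CK t C) n) (y : Over.mk t ⟶ pw k C n),
        (∀ i, y ≫ prj i = flC t (x ≫ prj i)) → Φ (x ≫ sumMap jK n) = y ≫ sumMap j n := fun x y hxy => by
      rw [Riemann22.comp_sumMap, Riemann22.comp_sumMap, map_prod]
      exact Finset.prod_congr rfl fun i _ => by rw [hxy]; exact hflj _
    have hzz : Φ (z * zA) = b * (toUnit (Over.mk t) ≫ a) := by
      rw [map_mul]
      exact congrArg₂ (· * ·) hz (hzA.trans (congrArg (· ≫ a) (toUnit_unique _ _)))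
    refine hpos.trans ⟨fun h => ?_, fun ⟨y, hy⟩ => ?_⟩
    · obtain ⟨x, hx⟩ := exists_sum hdimK σK hσK ψK hJK jK hjK (eff_of_h0_pos hdimK n _ hd h)
      let y : Over.mk t ⟶ pw k C n := Over.homMk
        (WidePullback.lift t (fun i => (flC t (x ≫ prj i)).left) fun i => Over.w (flC t (x ≫ prj i)))
        (WidePullback.lift_base _ _ _ _)
      refine ⟨y, ?_⟩
      have h1 := hsum x y fun i => Over.OverMorphism.ext (WidePullback.lift_π _ _ _ _ i)
      rw [hx, hzz] at h1
      rw [← Category.assoc, comp_transl, ← h1, GrpObj.comp_inv, mul_inv_cancel_right]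
    · choose xc hxc using fun i => flC_surjective t (y ≫ prj i)
      have hx : mkPt (fun i => (⟨(xc i).left, Over.w (xc i)⟩ : Torelli22.Pts Ω (CK t C))) ≫ sumMap jK n = z * zA := by
        refine flPt_injective t ?_
        show Φ _ = Φ _
        rw [hsum _ y fun i => by rw [Riemann22.mkPt_prj xc i, hxc i], hzz]
        rw [← Category.assoc, comp_transl, GrpObj.comp_inv] at hy
        exact mul_inv_eq_iff_eq_mul.1 hy
      rw [← hx]
      exact (eff_sum hdimK σK hσK ψK hJK jK hjK _).h0_pos hdimK ⟨σK, hσK⟩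
  haveI : IsSeparated J.hom := AbRigid.isSeparated_of_grpObj J
  show closure _ = _
  refine Set.Subset.antisymm (closure_minimal ?_ (JacPts22.isClosed_range _)) ?_
  · rintro _ ⟨Ω, _, _, t, _, L, hL, hQ, p, rfl⟩
    obtain ⟨y, hy⟩ := (main Ω t L hL).1 hQ
    rw [← hy]
    exact ⟨y.left.base p, rfl⟩
  · rintro _ ⟨q, rfl⟩
    refine subset_closure ?_
    let Ω := AlgebraicClosure ((pw k C n).left.residueField q)
    let t₀ : Spec (CommRingCat.of Ω) ⟶ (pw k C n).left :=
      Spec.map (CommRingCat.ofHom (algebraMap ((pw k C n).left.residueField q) Ω)) ≫ (pw k C n).left.fromSpecResidueField q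
    have ht₀ : ∀ w, t₀ w = q := fun w => by
      rw [show t₀ w = ((pw k C n).left.fromSpecResidueField q)
        ((Spec.map (CommRingCat.ofHom (algebraMap ((pw k C n).left.residueField q) Ω))) w) from Scheme.Hom.comp_apply _ _ _]
      exact Scheme.fromSpecResidueField_apply q _
    let y : Over.mk (t₀ ≫ (pw k C n).hom) ⟶ pw k C n := Over.homMk t₀ rfl
    let b := y ≫ trMap j n a⁻¹
    obtain ⟨E, hE, hEc⟩ := PicGrp.exists_eq_cls (pc (PicF.XTmap pC b) ξ)
    have hd : ∀ w, PicTan20.degCl pC _ w (pc (PicF.XTmap pC b) ξ).1 = 0 := fun w =>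
      (PicTan20.degCl_pull _ b w ξ.2).trans (hξ.1 _)
    have hok : (ModFun.PicDeg pC 0).ok (Over.mk (t₀ ≫ (pw k C n).hom)) E := ok_of_class _ hdim 0 hE fun w => by
      rw [← PicGrp.cls_val E hE, ← hEc]; exact hd w
    have happ : ψ.app _ E trivial hok = b := by
      rw [hψ _ E hok, classify_congr hξ (show famCls pC 0 hok = pc (PicF.XTmap pC b) ξ from hEc.symm) _ hd,
        classify_univ hξ b]
    refine ⟨Ω, inferInstance, inferInstance, t₀ ≫ (pw k C n).hom, trivial, E, hok,
      (main Ω _ E hok).2 ⟨y, happ.symm⟩, IsLocalRing.closedPoint Ω, ?_⟩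
    show (ψ.app _ E trivial hok).left.base _ = _
    rw [happ]
    exact congrArg (trMap j n a⁻¹).left.base (ht₀ _)

end Locus

variable {k : Type u} [Field k] {C : Scheme.{u}} [C.Over (Spec (CommRingCat.of k))]
  [IsProper (C ↘ Spec (CommRingCat.of k))] [Smooth (C ↘ Spec (CommRingCat.of k))]
  [GeometricallyConnected (C ↘ Spec (CommRingCat.of k))] [IsIntegral C]
  [GeometricallyIrreducible (C ↘ Spec (CommRingCat.of k))] (hdim : topologicalKrullDim C = 1)
  {J : Over (Spec (CommRingCat.of k))} [GrpObj J] [IsCommMonObj J]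
  {ψ : (ModFun.PicDeg (C ↘ Spec (CommRingCat.of k)) 0).Hom ⊤ J}
  (hJ : Jac.IsJacobian (C ↘ Spec (CommRingCat.of k)) ⊤ J ψ)
  {σ : Spec (CommRingCat.of k) ⟶ C} (hσ : σ ≫ (C ↘ Spec (CommRingCat.of k)) = 𝟙 _)
  {j : Over.mk (C ↘ Spec (CommRingCat.of k)) ⟶ J} (hj : Jac.IsAbelJacobiAt (C ↘ Spec (CommRingCat.of k)) σ ψ j)
  {K : Type u} [Field K] [IsAlgClosed K] (β : Spec (CommRingCat.of K) ⟶ Spec (CommRingCat.of k))
  [IsProper (CK β C ↘ Spec (CommRingCat.of K))]
  [Smooth (CK β C ↘ Spec (CommRingCat.of K))]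
  [GeometricallyConnected (CK β C ↘ Spec (CommRingCat.of K))] [IsIntegral (CK β C)]
  [GeometricallyIrreducible (CK β C ↘ Spec (CommRingCat.of K))]
  (hdimK : topologicalKrullDim (CK β C) = 1)
  {ψK : (ModFun.PicDeg (CK β C ↘ Spec (CommRingCat.of K)) 0).Hom ⊤ (Red.bc β J)}
  (hJK : Jac.IsJacobian (CK β C ↘ Spec (CommRingCat.of K)) ⊤ (Red.bc β J) ψK)
  {σK : Spec (CommRingCat.of K) ⟶ CK β C}
  (hσK : σK ≫ (CK β C ↘ Spec (CommRingCat.of K)) = 𝟙 _)
  {jK : Over.mk (CK β C ↘ Spec (CommRingCat.of K)) ⟶ Red.bc β J}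
  (hjK : Jac.IsAbelJacobiAt (CK β C ↘ Spec (CommRingCat.of K)) σK ψK jK)
  (hflj : ∀ x, flPt β (x ≫ jK) = flC β x ≫ j)

include hdim hJ hσ hj hdimK hJK hσK hjK hflj

set_option maxHeartbeats 2000000 in
/-- The class and the ampleness of the pulled back theta module. -/
theorem theta_anchor {n : ℕ} (hn : Curv2.genus k C = n + 1)
    (hnK : Curv2.genus K (CK β C) = n + 1) {N : C.Modules} (hN : PicF.IsInvertible N)
    (hNdeg : Curv2.deg k C N 1 = n) (hNc : PicGrp.cls N hN * ptCls hdim σ hσ ^ n = 1) {ΘJ : J.left.Modules}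
    (hΘJ : Jac.IsThetaLB (C ↘ Spec (CommRingCat.of k)) 0 ψ N ΘJ) :
    ∀ z : 𝟙_ (Over (Spec (CommRingCat.of K))) ⟶ Red.bc β J,
      pc (Y' := CK β C) (Riemann22.hMap jK z).left
          (pc (Y' := (Red.bc β J).left) (pullback.fst J.hom β) (PicGrp.cls ΘJ hΘJ.1)) =
        cN hdimK σK hσK ψK hJK (n + 1) z := by
  classical
  let pK := CK β C ↘ Spec (CommRingCat.of K)
  obtain ⟨hJp, -, -⟩ := jacobian_props hdim σ hσ hJ
  haveI := hJp
  haveI : IsSeparated J.hom := AbRigid.isSeparated_of_grpObj J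
  obtain ⟨hJKp, -, hJKg⟩ := jacobian_props hdimK σK hσK hJK
  haveI := hJKp
  haveI := hJKg
  haveI : IsSeparated (Red.bc β J).hom := AbRigid.isSeparated_of_grpObj _
  let a : 𝟙_ (Over (Spec (CommRingCat.of k))) ⟶ J := 1
  have ha : Jac.thetaLocus (C ↘ Spec (CommRingCat.of k)) 0 ψ N = Set.range (trMap j n a⁻¹).left.base := by
    rw [show a⁻¹ = 1 from inv_one]
    exact thetaLocus_eq_range₀ hdim hJ hσ hj hn hN hNdeg hNc
  haveI : IsProper (pw k C n).hom := inferInstance
  haveI : GeometricallyIntegral (pw k C n).hom := geometricallyIntegral_pw n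
  haveI : IsReduced (pw k C n).left := by
    haveI : IsIntegral (pw k C n).left := GeometricallyIntegral.isIntegral_of_subsingleton (pw k C n).hom
    infer_instance
  haveI : GeometricallyIntegral (pullback.snd (pw k C n).hom β) := MorphismProperty.pullback_snd _ _ inferInstance
  haveI : IsReduced (Red.bc β (pw k C n)).left := by
    haveI : IsIntegral (pullback (pw k C n).hom β) :=
      GeometricallyIntegral.isIntegral_of_subsingleton (pullback.snd (pw k C n).hom β)
    exact (inferInstance : IsReduced (pullback (pw k C n).hom β))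
  let F := trMap j n a⁻¹
  let vI := Scheme.IdealSheafData.vanishingIdeal
    (⟨Jac.thetaLocus (C ↘ Spec (CommRingCat.of k)) 0 ψ N, isClosed_closure⟩ : Closeds J.left)
  haveI : IsProper (F.left ≫ J.hom) := by rw [Over.w F]; infer_instance
  haveI : IsProper F.left := IsProper.of_comp F.left J.hom
  have hvF : vI = F.left.ker := by
    rw [SchImage.ker_eq_vanishingIdeal]
    refine congrArg Scheme.IdealSheafData.vanishingIdeal (Closeds.ext ?_)
    show Jac.thetaLocus (C ↘ Spec (CommRingCat.of k)) 0 ψ N = closure (Set.range F.left.base)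
    rw [ha, (JacPts22.isClosed_range F).closure_eq]
  let FK := (Over.pullback β).map F
  haveI : IsProper FK.left := MorphismProperty.of_isPullback (P := @IsProper) (isPullback_map β F) inferInstance
  have hcomap : vI.comap (pullback.fst J.hom β) = FK.left.ker := by
    rw [hvF]
    exact SchImage14.ker_comap_of_flat (isPullback_map β F)
  let Zp : Closeds (Red.bc β J).left :=
    (⟨Jac.thetaLocus (C ↘ Spec (CommRingCat.of k)) 0 ψ N, isClosed_closure⟩ : Closeds J.left).preimage
      (pullback.fst J.hom β).continuous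
  have hsupp : vI.support = ⟨Jac.thetaLocus (C ↘ Spec (CommRingCat.of k)) 0 ψ N, isClosed_closure⟩ :=
    rfl
  have hvK : vI.comap (pullback.fst J.hom β) = Scheme.IdealSheafData.vanishingIdeal Zp := by
    have h := congrArg Scheme.IdealSheafData.support hcomap
    rw [Scheme.IdealSheafData.support_comap, hsupp] at h
    rw [hcomap, SchImage.ker_eq_vanishingIdeal]
    refine congrArg Scheme.IdealSheafData.vanishingIdeal ?_
    refine Eq.trans ?_ h.symm
    refine Closeds.ext ?_
    rw [Scheme.Hom.support_ker]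
    rfl
  -- the points of the preimage
  obtain ⟨zA, hzA⟩ := flPt_surjective β (toUnit (Over.mk β) ≫ a)
  have hcl : IsClosed (Set.range (sumMap jK n).left.base) := JacPts22.isClosed_range (sumMap jK n)
  let Φ : (𝟙_ (Over (Spec (CommRingCat.of K))) ⟶ Red.bc β J) →* (Over.mk β ⟶ J) :=
    MonoidHom.mk' (flPt β) (flPt_mul β)
  have hsum : ∀ (x : 𝟙_ (Over (Spec (CommRingCat.of K))) ⟶ pw K (CK β C) n) (y : Over.mk β ⟶ pw k C n),
      (∀ i, y ≫ prj i = flC β (x ≫ prj i)) → Φ (x ≫ sumMap jK n) = y ≫ sumMap j n := fun x y hxy => by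
    rw [Riemann22.comp_sumMap, Riemann22.comp_sumMap, map_prod]
    exact Finset.prod_congr rfl fun i _ => by rw [hxy]; exact hflj _
  have hpts : ∀ z : 𝟙_ (Over (Spec (CommRingCat.of K))) ⟶ Red.bc β J,
      CurvePts22.pt z.left ∈ (Zp : Set (Red.bc β J).left) ↔
        CurvePts22.pt z.left ∈ (Jac.transl (Red.bc β J) zA).left.base ⁻¹' Set.range (sumMap jK n).left.base := by
    intro z
    rw [Set.mem_preimage, show (Jac.transl (Red.bc β J) zA).left.base (CurvePts22.pt z.left) =
      CurvePts22.pt (z * zA).left by rw [← point_comp_transl]; rfl, pt_mem_range_iff]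
    have hcl' : (flPt β z).left (IsLocalRing.closedPoint K) = (pullback.fst J.hom β) (CurvePts22.pt z.left) := rfl
    show (pullback.fst J.hom β) (CurvePts22.pt z.left) ∈ Jac.thetaLocus (C ↘ Spec (CommRingCat.of k)) 0 ψ N ↔ _
    rw [← hcl', ha]
    constructor
    · intro h
      obtain ⟨y, hy⟩ := exists_lift_pt (trMap j n a⁻¹) (flPt β z) h
      rw [← Category.assoc, comp_transl, GrpObj.comp_inv, mul_inv_eq_iff_eq_mul, ← hzA, ← flPt_mul] at hy
      choose xc hxc using fun i => flC_surjective β (y ≫ prj i)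
      refine ⟨mkPt (fun i => (⟨(xc i).left, Over.w (xc i)⟩ : Torelli22.Pts K (CK β C))), flPt_injective β ?_⟩
      show Φ _ = Φ _
      rw [hsum _ y fun i => by rw [Riemann22.mkPt_prj xc i, hxc i]]
      exact hy
    · rintro ⟨x, hx⟩
      let y : Over.mk β ⟶ pw k C n := Over.homMk
        (WidePullback.lift β (fun i => (flC β (x ≫ prj i)).left) fun i => Over.w (flC β (x ≫ prj i)))
        (WidePullback.lift_base _ _ _ _)
      have h1 := hsum x y fun i => Over.OverMorphism.ext (WidePullback.lift_π _ _ _ _ i)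
      rw [hx] at h1
      have h2 : y ≫ trMap j n a⁻¹ = flPt β z := by
        rw [← Category.assoc, comp_transl, GrpObj.comp_inv, mul_inv_eq_iff_eq_mul, ← hzA, ← flPt_mul]
        exact h1.symm
      rw [← h2]
      exact ⟨y.left.base (IsLocalRing.closedPoint K), rfl⟩
  let t := Jac.transl (Red.bc β J) zA
  haveI : IsIso t.left := Riemann22.isIso_transl zA
  have hZ : (Zp : Set (Red.bc β J).left) = t.left.base ⁻¹' Set.range (sumMap jK n).left.base := by
    refine Set.Subset.antisymm (fun y hy => ?_) (fun y hy => ?_)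
    · by_contra h
      obtain ⟨b, hb1, hb2⟩ := exists_point_mem (P := Red.bc β J)
        (Zp.isClosed.isLocallyClosed.inter (hcl.preimage t.left.continuous).isOpen_compl.isLocallyClosed) ⟨y, hy, h⟩
      exact hb2 ((hpts b).1 hb1)
    · by_contra h
      obtain ⟨b, hb1, hb2⟩ := exists_point_mem (P := Red.bc β J)
        ((hcl.preimage t.left.continuous).isLocallyClosed.inter Zp.isClosed.isOpen_compl.isLocallyClosed) ⟨y, hy, h⟩
      exact hb2 ((hpts b).2 hb1)
  have hE := isEffCartierIdeal_theta hdimK hσK hJK jK hjK hnK hcl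
  set c₀ := PicGrp.cls _ (M2.isInvertible_idealMod _ hE) with hc₀
  have hE' : BlowUp.IsEffCartierIdeal
      ((Scheme.IdealSheafData.vanishingIdeal ⟨_, hcl⟩).comap t.left) := BlowUp26.isEffCartierIdeal_comap_flat hE t.left
  have hv : vI.comap (pullback.fst J.hom β) = (Scheme.IdealSheafData.vanishingIdeal ⟨_, hcl⟩).comap t.left := by
    rw [hvK]
    exact (congrArg Scheme.IdealSheafData.vanishingIdeal (TopologicalSpace.Closeds.ext hZ)).trans
      (NodeBlow14.comap_vanishingIdeal t.left ⟨_, hcl⟩).symm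
  haveI : Flat (pullback.fst J.hom β) := MorphismProperty.pullback_fst (P := @Flat) _ _ inferInstance
  have hvinv : BlowUp.IsEffCartierIdeal vI :=
    SecDiv.isEffCartierIdeal_of_isInvertible vI (by
      obtain ⟨e⟩ := hΘJ.2
      obtain ⟨D, hD, ⟨eD⟩⟩ := M2.exists_inverse hΘJ.1
      exact M2.isInvertible_of_iso (M2.inverseUnique eD e) hD)
  have hE'' : BlowUp.IsEffCartierIdeal (vI.comap (pullback.fst J.hom β)) := by rw [hv]; exact hE'
  have hΘc : pc (Y' := (Red.bc β J).left) (pullback.fst J.hom β) (PicGrp.cls ΘJ hΘJ.1) = (AlgEquiv22.pb t c₀)⁻¹ := by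
    refine eq_inv_of_mul_eq_one_left ?_
    have e : AlgEquiv22.pb t c₀ = pc (Y' := (Red.bc β J).left) (pullback.fst J.hom β) (PicGrp.cls _ (M2.isInvertible_idealMod _ hvinv)) :=
      ((cls_comap t.left hE hE').trans (cls_congr hv hE'' hE').symm).trans (cls_comap (pullback.fst J.hom β) hvinv hE'').symm
    rw [e, ← map_mul, (PicGrp.cls_mul_cls_eq_one_iff hΘJ.1 _).2 hΘJ.2, map_one]
  intro z
  have hA : zA = 1 := by
    refine flPt_injective β ?_
    rw [hzA, show flPt β (1 : 𝟙_ (Over (Spec (CommRingCat.of K))) ⟶ Red.bc β J) = 1 from map_one Φ]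
    exact MonObj.comp_one _
  have ht : t = 𝟙 _ := by
    show Jac.transl (Red.bc β J) zA = _
    rw [hA]
    have h := comp_transl (J := Red.bc β J) (𝟙 _) (1 : 𝟙_ (Over (Spec (CommRingCat.of K))) ⟶ Red.bc β J)
    rw [Category.id_comp, MonObj.comp_one, _root_.mul_one] at h
    exact h
  rw [hΘc, ht, map_inv, show AlgEquiv22.pb (𝟙 (Red.bc β J)) c₀ = c₀ from pc_id _, hc₀]
  erw [pullback_theta_class hdimK hσK hJK jK hjK hnK hcl hE z]
  exact inv_inv _

end Groth.Agent.JacDeg22
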