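import Groth.Agent.Lib.JacDeg22.Iso
import Groth.Agent.Lib.PicSep22.Main
import Groth.Agent.Lib.PicSep22.Smooth
import Groth.Agent.S5684

/-!
# Twists from the base after a finite extension
-/

set_option autoImplicit false
set_option linter.style.haveILetI false
set_option linter.unusedSectionVars false
set_option backward.isDefEq.respectTransparency false
set_option backward.isDefEq.respectTransparency.types false
set_option maxHeartbeats 1000000
set_option synthInstance.maxHeartbeats 200000

universe u

open CategoryTheory CategoryTheory.Limits AlgebraicGeometry Opposite MonoidalCategory CartesianMonoidalCategory MonObj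

noncomputable section

namespace Groth.Agent.JacDeg22

open Groth.Agent.Abel10 (pc pc_comp pc_id)
open Groth.Agent.PicRep20 Groth.Agent.JacBC22

noncomputable local instance instLawTwist (Y : Scheme.{u}) : PicGrp.Law Y := M2.law Y

variable {k : Type u} [Field k] {F : Type u} [Field F] (β : Spec (CommRingCat.of F) ⟶ Spec (CommRingCat.of k))
  {X : Scheme.{u}} (f : X ⟶ Spec (CommRingCat.of k)) [IsProper f] [Smooth f] [GeometricallyConnected f]

/-- A class coming from the base after an extension of the field comes from the base. -/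
theorem exists_base [IsFinite β] [Flat β] [Surjective β] (T : Over (Spec (CommRingCat.of k)))
    (Q : PicLoc.PicSet (PicF.XT f T)) (m : PicLoc.PicSet (Red.bc β T).left)
    (h : upT β f T Q = pc (PicF.XTproj (fK β f) (Red.bc β T)) m) :
    ∃ m₀, Q = pc (PicF.XTproj f T) m₀ := by
  let T' := (Over.map β).obj (Red.bc β T)
  let ηT : T' ⟶ T := fm β (𝟙 (Red.bc β T))
  have h1 : pc (PicF.XTmap f ηT) Q = pc (PicF.XTproj f T') m := by
    have h' := congrArg (down β f (Red.bc β T)) h
    rw [← up_proj, down_up] at h'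
    exact (down_up β f (Red.bc β T) _).symm.trans h'
  let p := PicF.XTproj f T
  haveI : GeometricallyIntegral f := PicSep22.geometricallyIntegral_of_smooth f
  haveI : IsProper p := inferInstanceAs (IsProper (pullback.snd f T.hom))
  haveI : Flat p := inferInstanceAs (Flat (pullback.snd f T.hom))
  haveI : LocallyOfFinitePresentation p := inferInstanceAs (LocallyOfFinitePresentation (pullback.snd f T.hom))
  haveI : GeometricallyIntegral p := MorphismProperty.pullback_snd (P := @GeometricallyIntegral) f T.hom inferInstance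
  have hηT : ηT.left = pullback.fst T.hom β := (fm_left β _).trans (Category.id_comp _)
  haveI : IsFinite ηT.left := by rw [hηT]; exact MorphismProperty.pullback_fst (P := @IsFinite) _ _ inferInstance
  haveI : Flat ηT.left := by rw [hηT]; exact MorphismProperty.pullback_fst (P := @Flat) _ _ inferInstance
  haveI : Surjective ηT.left := by rw [hηT]; exact MorphismProperty.pullback_fst (P := @Surjective) _ _ inferInstance
  obtain ⟨L, hL, rfl⟩ := PicGrp.exists_eq_cls Q
  obtain ⟨M, hM, rfl⟩ := PicGrp.exists_eq_cls m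
  let sq := HilbBC25.isPullback_XTmap f ηT
  have hi : pc (pullback.fst p ηT.left) (PicGrp.cls L hL) = pc (pullback.snd p ηT.left) (PicGrp.cls M hM) := by
    rw [← pc_comp sq.isoPullback.inv _ sq.isoPullback_inv_fst, ← pc_comp sq.isoPullback.inv _ sq.isoPullback_inv_snd]
    exact congrArg (pc sq.isoPullback.inv) h1
  rw [pc, PicGrp.pullHom_cls, PicGrp.pullHom_cls, PicGrp.cls_eq_cls_iff] at hi
  obtain ⟨N, hN, ⟨e⟩⟩ := S5684.result p (fun U => (ConcreteCategory.isIso_iff_bijective _).1 (PicSep22.isIso_app p U))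
    ηT.left L hL ⟨M, hM, hi⟩
  refine ⟨PicGrp.cls N hN, ?_⟩
  rw [pc, PicGrp.pullHom_cls, PicGrp.cls_eq_cls_iff]
  exact ⟨e⟩


variable [IsFinite β] [Flat β] [Surjective β] [LocallyOfFinitePresentation β] [IsIntegral X] [GeometricallyIrreducible f] [IsIntegral (Red.bc β (Over.mk f)).left]
  [GeometricallyIrreducible (fK β f)] (hdim : topologicalKrullDim X = 1)
  [IsProper (fK β f)] [Smooth (fK β f)] [GeometricallyConnected (fK β f)]
  (hdimK : topologicalKrullDim (Red.bc β (Over.mk f)).left = 1)
  {d : ℤ} {J : Over (Spec (CommRingCat.of k))} (ψ : (ModFun.PicDeg f d).Hom ⊤ J)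
  {ξF : PicLoc.PicSet (PicF.XT (fK β f) (Red.bc β J))} (hξF : IsUnivClass (fK β f) d (Red.bc β J) ξF)
  (hfm : ∀ (T : Over (Spec (CommRingCat.of F))) (c : PicLoc.PicSet (PicF.XT (fK β f) T))
    (hc : ∀ t, PicTan20.degCl (fK β f) T t c.1 = d),
    fm β (classify hξF c hc) = Psi f hdim ψ (down β f T c) (deg_down β f hdim hdimK c hc))

include hdim hdimK hfm

/-- Classification of the extension of a family. -/
theorem fm_classify_upT {T : Over (Spec (CommRingCat.of k))} (z : (PicF.XT f T).Modules)
    (hz : (ModFun.PicDeg f d).ok T z) :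
    fm β (classify hξF (upT β f T (famCls f d hz)) (deg_upT β f hdim hdimK _ (degCl_famCls f hdim d hz))) =
      fm β (𝟙 (Red.bc β T)) ≫ ψ.app T z trivial hz := by
  rw [hfm, psi_app f hdim ψ z hz (famCls f d hz) (degCl_famCls f hdim d hz) rfl]
  rw [← psi_pc f hdim ψ (fm β (𝟙 (Red.bc β T))) (famCls f d hz) (degCl_famCls f hdim d hz)
    (fun r => (PicTan20.degCl_pull f _ r (famCls f d hz).2).trans (degCl_famCls f hdim d hz _))]
  exact psi_congr f hdim ψ (down_up β f (Red.bc β T) _) _ _

/-- Families with the same classifying morphism differ by a twist from the base. -/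
theorem exists_twist {T : Over (Spec (CommRingCat.of k))}
    (y x : (PicF.XT f T).Modules) (hy : (ModFun.PicDeg f d).ok T y) (hx : (ModFun.PicDeg f d).ok T x)
    (h : ψ.app T y trivial hy = ψ.app T x trivial hx) : (ModFun.PicDeg f d).r T y x := by
  have k1 := fm_classify_upT β f hdim hdimK ψ hξF hfm y hy
  have k2 := fm_classify_upT β f hdim hdimK ψ hξF hfm x hx
  rw [h] at k1
  have heq := fm_injective β (k1.trans k2.symm)
  obtain ⟨m₁, hm₁⟩ := classify_spec hξF _ (deg_upT β f hdim hdimK _ (degCl_famCls f hdim d hy))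
  obtain ⟨m₂, hm₂⟩ := classify_spec hξF _ (deg_upT β f hdim hdimK _ (degCl_famCls f hdim d hx))
  rw [heq] at hm₁
  have hQ : upT β f T (famCls f d hx * (famCls f d hy)⁻¹) = pc (PicF.XTproj (fK β f) (Red.bc β T)) (m₂ * m₁⁻¹) := by
    have h' := upT_mul β f T (famCls f d hx * (famCls f d hy)⁻¹) (famCls f d hy)
    rw [inv_mul_cancel_right] at h'
    rw [← mul_inv_eq_iff_eq_mul.2 h', hm₂, hm₁, map_mul, map_inv]
    rw [← div_eq_mul_inv, mul_div_mul_left_eq_div, div_eq_mul_inv]
  obtain ⟨m₀, hm₀⟩ := exists_base β f T _ _ hQ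
  refine (r_iff f _ ((M2.isInvertible_iff_isFinLocFreeOfRank_one y).2 hy.1.2)
    ((M2.isInvertible_iff_isFinLocFreeOfRank_one x).2 hx.1.2)).2 ⟨m₀, ?_⟩
  show famCls f d hx = famCls f d hy * _
  rw [← hm₀, _root_.mul_comm (famCls f d hx), mul_inv_cancel_left]

end Groth.Agent.JacDeg22
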