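import Groth.Agent.Lib.JacDeg22.Iso
import Groth.Agent.Lib.JacDeg22.Twist
import Groth.Agent.Lib.JacBC22.Theta
import Groth.Agent.Lib.AmpleFib.CurveRel

/-!
# The canonical involution of the Picard scheme of degree one less than the genus
-/

set_option autoImplicit false
set_option linter.style.haveILetI false
set_option linter.unusedSectionVars false
set_option backward.isDefEq.respectTransparency false
set_option backward.isDefEq.respectTransparency.types false
set_option maxHeartbeats 1000000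
set_option synthInstance.maxHeartbeats 200000

universe u

open CategoryTheory CategoryTheory.Limits AlgebraicGeometry Opposite MonoidalCategory CartesianMonoidalCategory MonObj

noncomputable section

namespace Groth.Agent.JacDeg22

open Groth.Agent.Abel10 (pc pc_comp pc_id)
open Groth.Agent.PicRep20 Groth.Agent.JacPts22 Groth.Agent.JacBC22

noncomputable local instance instLawCanon (Y : Scheme.{u}) : PicGrp.Law Y := M2.law Y

variable {k : Type u} [Field k] {X : Scheme.{u}} [X.Over (Spec (CommRingCat.of k))]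
  [IsProper (X ↘ Spec (CommRingCat.of k))] [Smooth (X ↘ Spec (CommRingCat.of k))]
  [GeometricallyConnected (X ↘ Spec (CommRingCat.of k))] [IsIntegral X]
  [GeometricallyIrreducible (X ↘ Spec (CommRingCat.of k))] (hdim : topologicalKrullDim X = 1)

/-- The constant family on a test scheme. -/
abbrev cstK (T : Over (Spec (CommRingCat.of k))) : PicLoc.PicSet X →* PicLoc.PicSet (PicF.XT (X ↘ Spec (CommRingCat.of k)) T) :=
  pc (pullback.fst (X ↘ Spec (CommRingCat.of k)) T.hom)

theorem cstK_map {T T' : Over (Spec (CommRingCat.of k))} (g : T' ⟶ T) (a : PicLoc.PicSet X) :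
    pc (PicF.XTmap (X ↘ Spec (CommRingCat.of k)) g) (cstK T a) = cstK T' a :=
  pc_comp _ _ (HilbBC25.XTmap_fst (X ↘ Spec (CommRingCat.of k)) g) a

/-- The canonical class. -/
def kcl : PicLoc.PicSet X :=
  PicGrp.cls (Omega.sheaf (X ↘ Spec (CommRingCat.of k))) (AmpleFib.deg_omega_of_smooth_connected (k := k) (X := X) hdim).1

include hdim in
theorem degCl_cstK {L : X.Modules} (hL : PicF.IsInvertible L) (T : Over (Spec (CommRingCat.of k))) (t : T.left) :
    PicTan20.degCl (X ↘ Spec (CommRingCat.of k)) T t (cstK T (PicGrp.cls L hL)).1 = Curv2.deg k X L 1 := by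
  let g : T ⟶ JacPts22.T₀ k := Over.homMk T.hom (Category.comp_id _)
  have h := PicTan20.degCl_pull (X ↘ Spec (CommRingCat.of k)) g t (cstK (JacPts22.T₀ k) (PicGrp.cls L hL)).2
  have e : (pc (PicF.XTmap (X ↘ Spec (CommRingCat.of k)) g) (cstK (JacPts22.T₀ k) (PicGrp.cls L hL))).1 =
    (cstK T (PicGrp.cls L hL)).1 := congrArg Subtype.val (cstK_map g (PicGrp.cls L hL))
  rw [← e]
  exact h.trans (degCl_fst hdim hL _)

include hdim in
/-- The degree of a family over a point is the degree of the module. -/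
theorem degC_point {Ω : Type u} [Field Ω] [IsAlgClosed Ω] (t : Spec (CommRingCat.of Ω) ⟶ Spec (CommRingCat.of k))
    [IsProper (CK t X ↘ Spec (CommRingCat.of Ω))] [Smooth (CK t X ↘ Spec (CommRingCat.of Ω))]
    [GeometricallyConnected (CK t X ↘ Spec (CommRingCat.of Ω))] [IsIntegral (CK t X)]
    (c : PicLoc.PicSet (PicF.XT (X ↘ Spec (CommRingCat.of k)) (Over.mk t))) :
    degC (C := CK t X) Ω c = PicTan20.degCl (X ↘ Spec (CommRingCat.of k)) (Over.mk t) (IsLocalRing.closedPoint Ω) c.1 := by
  let f := X ↘ Spec (CommRingCat.of k)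
  let p := PicF.XTproj f (Over.mk t)
  obtain ⟨L, hL, rfl⟩ := PicGrp.exists_eq_cls c
  letI : (PicF.XT f (Over.mk t)).Over (Spec (CommRingCat.of Ω)) := ⟨p⟩
  haveI : IsProper p := inferInstanceAs (IsProper (pullback.snd f t))
  haveI : IsProper (CK t X ↘ Spec (CommRingCat.of Ω)) := inferInstanceAs (IsProper (pullback.snd f t))
  refine (degC_cls (C := CK t X) (k := Ω) hL).trans ?_
  have hid : IsPullback (𝟙 (PicF.XT f (Over.mk t))) (PicF.XT f (Over.mk t) ↘ Spec (CommRingCat.of Ω)) p (𝟙 _) :=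
    IsPullback.of_horiz_isIso ⟨by rw [Category.id_comp, Category.comp_id]; rfl⟩
  have h := Abel10.deg_fieldPt (K := Ω) hid hL
  rw [CurveCoh17.deg_iso ((Scheme.Modules.pullbackId _).app L), Functor.id_obj] at h
  rw [PicGrp.cls_val]
  exact h.trans (deg_fibre f hdim (Over.mk t) _ hL)

/-- Pull back along an extension of the field is injective on classes. -/
theorem eq_one_of_ext {K : Type u} [Field K] (β : Spec (CommRingCat.of K) ⟶ Spec (CommRingCat.of k))
    (Q : PicLoc.PicSet X) (h : pc (pullback.fst (X ↘ Spec (CommRingCat.of k)) β) Q = 1) : Q = 1 := by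
  let f := X ↘ Spec (CommRingCat.of k)
  haveI : GeometricallyIntegral f := PicSep22.geometricallyIntegral_of_smooth f
  haveI : Surjective β := ⟨fun x => ⟨IsLocalRing.closedPoint K, Subsingleton.elim (α := PrimeSpectrum k) _ _⟩⟩
  obtain ⟨L, hL, rfl⟩ := PicGrp.exists_eq_cls Q
  rw [pc, PicGrp.pullHom_cls, PicGrp.cls_eq_one_iff] at h
  obtain ⟨i⟩ := h
  obtain ⟨N, hN, ⟨e⟩⟩ := S5684.result f (fun U => (ConcreteCategory.isIso_iff_bijective _).1 (PicSep22.isIso_app f U))
    β L hL ⟨Coh.structureModule _, PicLoc.isInvertible_structureModule _, ⟨i ≪≫ (PicLoc.pullbackStructureIso _).symm⟩⟩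
  rw [PicGrp.cls_eq_one_iff]
  obtain ⟨i'⟩ := CubeField.nonempty_trivial_field _ hN
  exact ⟨e ≪≫ (Scheme.Modules.pullback f).mapIso i' ≪≫ PicLoc.pullbackStructureIso _⟩

include hdim in
/-- The theta locus of the structure sheaf is stable under the canonical involution. -/
theorem jumpLocus_invol {d : ℤ} (hd : d = (Curv2.genus k X : ℤ) - 1) {J : Over (Spec (CommRingCat.of k))}
    (ψ : (ModFun.PicDeg (X ↘ Spec (CommRingCat.of k)) d).Hom ⊤ J) (iv : J ⟶ J)
    (hdeg : ∀ (T : Over (Spec (CommRingCat.of k))) (z : (PicF.XT (X ↘ Spec (CommRingCat.of k)) T).Modules)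
      (hz : (ModFun.PicDeg (X ↘ Spec (CommRingCat.of k)) d).ok T z),
      ∀ r, PicTan20.degCl (X ↘ Spec (CommRingCat.of k)) T r (cstK T (kcl (k := k) hdim) * (famCls _ d hz)⁻¹).1 = d)
    (hiv : ∀ (T : Over (Spec (CommRingCat.of k))) (z : (PicF.XT (X ↘ Spec (CommRingCat.of k)) T).Modules)
      (hz : (ModFun.PicDeg (X ↘ Spec (CommRingCat.of k)) d).ok T z),
      ψ.app T z trivial hz ≫ iv = Psi (X ↘ Spec (CommRingCat.of k)) hdim ψ (cstK T (kcl (k := k) hdim) * (famCls _ d hz)⁻¹) (hdeg T z hz))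
    (x : J.left) (hx : x ∈ Jac.jumpLocus (X ↘ Spec (CommRingCat.of k)) d ψ (Coh.structureModule X)) :
    iv.left x ∈ Jac.jumpLocus (X ↘ Spec (CommRingCat.of k)) d ψ (Coh.structureModule X) := by
  obtain ⟨Ω, iF, iA, t, hP, L, hL, hQ, p, hp⟩ := hx
  let f := X ↘ Spec (CommRingCat.of k)
  let c := famCls f d hL
  let c' := cstK (Over.mk t) (kcl (k := k) hdim) * c⁻¹
  refine ⟨Ω, iF, iA, t, trivial, rep c', ok_rep f hdim c' (hdeg _ L hL), ?_, p, ?_⟩
  · obtain ⟨h1, h2, h3, h4, h5, hdimK, hgK⟩ := setup t hdim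
    haveI := h1; haveI := h2; haveI := h3; haveI := h4; haveI := h5
    letI : (PicF.XT f (Over.mk t)).Over (Spec (CommRingCat.of Ω)) := ⟨PicF.XTproj _ _⟩
    haveI : IsProper (PicF.XT f (Over.mk t) ↘ Spec (CommRingCat.of Ω)) := h1
    have hK : KC (k := Ω) (C := CK t X) hdimK = cstK (Over.mk t) (kcl (k := k) hdim) := by
      obtain ⟨i⟩ := AmpleFib.nonempty_omega_pullback (f := f) (f' := CK t X ↘ Spec (CommRingCat.of Ω))
        (IsPullback.of_hasPullback f t)
      rw [kcl, cstK, pc, PicGrp.pullHom_cls]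
      exact ((PicGrp.cls_eq_cls_iff _ _).2 ⟨i⟩).symm
    have key : ∀ (M : (PicF.XT f (Over.mk t)).Modules) (hM : PicF.IsInvertible M),
        (¬ Subsingleton (Coh.HH (PicF.XT f (Over.mk t))
          (CohB1.tensorMod M ((Scheme.Modules.pullback (pullback.fst f t)).obj (Coh.structureModule X))) 0)) ↔
          0 < h0C (C := CK t X) Ω (PicGrp.cls M hM) := by
      intro M hM
      have hO := PicLoc.isInvertible_pullback (pullback.fst f t) (PicLoc.isInvertible_structureModule X)
      have hT := M2.isInvertible_tensor hM hO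
      haveI : Module.Finite Ω (Coh.HH (PicF.XT f (Over.mk t)) (CohB1.tensorMod M ((Scheme.Modules.pullback (pullback.fst f t)).obj (Coh.structureModule X))) 0) :=
        CohFound.finite_HH_of_isProper (A := Ω) _ (CubeField.isCoh_of_isInvertible hT) 0
      have e : PicGrp.cls _ hT = PicGrp.cls M hM := by
        rw [← AlgEquiv22.cls_tensor hM hO, ← PicGrp.pullHom_cls (pullback.fst f t) (M2.pullMul _) _ (PicLoc.isInvertible_structureModule X),
          PicGrp.cls_structureModule_eq_one, map_one, _root_.mul_one]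
      rw [← e, h0C_cls (C := CK t X) hT, Nat.pos_iff_ne_zero]
      exact not_congr (Module.finrank_zero_iff (R := Ω)).symm
    have hLi := (M2.isInvertible_iff_isFinLocFreeOfRank_one L).2 hL.1.2
    rw [key _ (rep_inv c'), cls_rep]
    have h0 := (key L hLi).1 hQ
    let x₀ : Torelli22.Pts Ω (CK t X) := ⟨_, (CurveTwist13.exists_section_mem (k := Ω) (X := CK t X) ⊤ Set.univ_nonempty).choose_spec.1⟩
    have hr := rr hdimK x₀ (show PicLoc.PicSet (CK t X) from c)
    rw [hK, degC_point hdim t c, degCl_famCls f hdim d hL, hd, ← hgK] at hr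
    change 0 < h0C (C := CK t X) Ω c at h0
    show 0 < h0C (C := CK t X) Ω c'
    have : (h0C (C := CK t X) Ω c : ℤ) - h0C (C := CK t X) Ω c' = 0 := hr.trans (by ring)
    omega
  · show (Psi f hdim ψ c' (hdeg _ L hL)).left p = iv.left x
    rw [← hiv _ L hL, Over.comp_left, Scheme.Hom.comp_apply, ← hp]

end Groth.Agent.JacDeg22
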