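import Groth.Agent.Lib.JacDeg22.Psi
import Groth.Agent.Lib.WeilExist.Basic

/-!
# A coarse Jacobian becomes fine over a finite extension with a rational point
-/

set_option autoImplicit false
set_option linter.style.haveILetI false
set_option linter.unusedSectionVars false
set_option backward.isDefEq.respectTransparency false
set_option backward.isDefEq.respectTransparency.types false
set_option maxHeartbeats 1000000

universe u

open CategoryTheory CategoryTheory.Limits AlgebraicGeometry Opposite MonoidalCategory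
  CartesianMonoidalCategory MonObj

noncomputable section

namespace Groth.Agent.JacDeg22

open Groth.Agent.Abel10 (pc pc_comp pc_id)
open Groth.Agent.PicRep20
open Groth.Agent.JacBC22 (fK up down up_down down_up up_map down_map up_proj degCl_up pc_map_map)

noncomputable local instance instLawFormIso (Y : Scheme.{u}) : PicGrp.Law Y := M2.law Y

section Adj

variable {S S' : Scheme.{u}} (β : S' ⟶ S)

/-- The morphism downstairs underlying a morphism to a base change. -/
def fm {G : Over S} {T : Over S'} (x : T ⟶ Red.bc β G) : (Over.map β).obj T ⟶ G :=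
  ((Over.mapPullbackAdj β).homEquiv T G).symm x

theorem fm_injective {G : Over S} {T : Over S'} : Function.Injective (fm β : (T ⟶ Red.bc β G) → _) :=
  ((Over.mapPullbackAdj β).homEquiv T G).symm.injective

theorem fm_comp {G : Over S} {T T' : Over S'} (t : T' ⟶ T) (x : T ⟶ Red.bc β G) :
    fm β (t ≫ x) = (Over.map β).map t ≫ fm β x :=
  Adjunction.homEquiv_naturality_left_symm _ _ _

theorem fm_comp_map {G H : Over S} {T : Over S'} (x : T ⟶ Red.bc β G) (g : G ⟶ H) :
    fm β (x ≫ (Over.pullback β).map g) = fm β x ≫ g :=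
  Adjunction.homEquiv_naturality_right_symm _ _ _

theorem fm_map {G H : Over S} (g : G ⟶ H) :
    fm β ((Over.pullback β).map g) = fm β (𝟙 (Red.bc β G)) ≫ g := by
  rw [← fm_comp_map]
  exact congrArg (fm β) (Category.id_comp _).symm

theorem map_fm {G : Over S} {T : Over S'} (x : T ⟶ Red.bc β G) :
    (Over.map β).map x ≫ fm β (𝟙 (Red.bc β G)) = fm β x := by
  rw [← fm_comp, Category.comp_id]

theorem fm_left {G : Over S} {T : Over S'} (x : T ⟶ Red.bc β G) :
    (fm β x).left = x.left ≫ pullback.fst G.hom β := by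
  simp [fm, Adjunction.homEquiv_counit]

end Adj

variable {k : Type u} [Field k] {F : Type u} [Field F] (β : Spec (CommRingCat.of F) ⟶ Spec (CommRingCat.of k))
  [IsFinite β] [Flat β] [LocallyOfFinitePresentation β]
  {X : Scheme.{u}} (f : X ⟶ Spec (CommRingCat.of k)) [IsProper f] [Smooth f] [GeometricallyConnected f]
  [IsIntegral X] [GeometricallyIrreducible f] [IsIntegral (Red.bc β (Over.mk f)).left]
  [GeometricallyIrreducible (fK β f)] (hdim : topologicalKrullDim X = 1)
  [IsProper (fK β f)] [Smooth (fK β f)] [GeometricallyConnected (fK β f)]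
  (hdimK : topologicalKrullDim (Red.bc β (Over.mk f)).left = 1)
  {d : ℤ} {J : Over (Spec (CommRingCat.of k))} (ψ : (ModFun.PicDeg f d).Hom ⊤ J)

/-- A class over the ground field read over the extension. -/
def upT (T : Over (Spec (CommRingCat.of k))) (c : PicLoc.PicSet (PicF.XT f T)) :
    PicLoc.PicSet (PicF.XT (fK β f) (Red.bc β T)) :=
  up β f (Red.bc β T) (pc (PicF.XTmap f (fm β (𝟙 (Red.bc β T)))) c)

theorem upT_mul (T : Over (Spec (CommRingCat.of k))) (a b : PicLoc.PicSet (PicF.XT f T)) :
    upT β f T (a * b) = upT β f T a * upT β f T b := by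
  unfold upT
  rw [map_mul, map_mul]

include hdim hdimK in
theorem deg_upT {T : Over (Spec (CommRingCat.of k))} (c : PicLoc.PicSet (PicF.XT f T))
    (hc : ∀ t, PicTan20.degCl f T t c.1 = d) :
    ∀ t, PicTan20.degCl (fK β f) (Red.bc β T) t (upT β f T c).1 = d := fun t =>
  (degCl_up β f hdim hdimK (Red.bc β T) t (pc (PicF.XTmap f (fm β (𝟙 (Red.bc β T)))) c)).trans
    ((PicTan20.degCl_pull f (fm β (𝟙 (Red.bc β T))) t c.2).trans (hc _))

theorem upT_map {T T' : Over (Spec (CommRingCat.of k))} (g : T' ⟶ T) (c : PicLoc.PicSet (PicF.XT f T)) :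
    upT β f T' (pc (PicF.XTmap f g) c) = pc (PicF.XTmap (fK β f) ((Over.pullback β).map g)) (upT β f T c) := by
  show up β f _ (pc _ (pc _ c)) = pc _ (up β f _ (pc _ c))
  rw [← up_map, pc_map_map, pc_map_map, map_fm β ((Over.pullback β).map g), fm_map]

include hdim hdimK in
theorem deg_down {T : Over (Spec (CommRingCat.of F))} (c : PicLoc.PicSet (PicF.XT (fK β f) T))
    (hc : ∀ t, PicTan20.degCl (fK β f) T t c.1 = d) :
    ∀ t, PicTan20.degCl f ((Over.map β).obj T) t (down β f T c).1 = d := fun t => by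
  rw [← degCl_up β f hdim hdimK T t, up_down]
  exact hc t

theorem psi_twist {T : Over (Spec (CommRingCat.of k))} {c c' : PicLoc.PicSet (PicF.XT f T)} (m : PicLoc.PicSet T.left)
    (h : c' = c * pc (PicF.XTproj f T) m) (hc hc') : Psi f hdim ψ c hc = Psi f hdim ψ c' hc' :=
  ψ.resp _ _ trivial (ok_rep f hdim c hc) (ok_rep f hdim c' hc') ((r_iff f d (rep_inv c) (rep_inv c')).2
    ⟨m, by rw [cls_rep, cls_rep]; exact h⟩)

section Fine

variable {J' : Over (Spec (CommRingCat.of F))} {ξ' : PicLoc.PicSet (PicF.XT (fK β f) J')}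
  (hξ' : IsUnivClass (fK β f) d J' ξ')

include hdim hdimK in
/-- The comparison is compatible with classification. -/
theorem map_classify_psi {T : Over (Spec (CommRingCat.of F))} (c : PicLoc.PicSet (PicF.XT (fK β f) T))
    (hc : ∀ t, PicTan20.degCl (fK β f) T t c.1 = d) :
    (Over.map β).map (classify hξ' c hc) ≫ Psi f hdim ψ (down β f J' ξ') (deg_down β f hdim hdimK ξ' hξ'.1) =
      Psi f hdim ψ (down β f T c) (deg_down β f hdim hdimK c hc) := by
  obtain ⟨m, hm⟩ := classify_spec hξ' c hc
  rw [← psi_pc f hdim ψ ((Over.map β).map (classify hξ' c hc)) (down β f J' ξ') _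
    (fun t => (PicTan20.degCl_pull f _ t (down β f J' ξ').2).trans (deg_down β f hdim hdimK ξ' hξ'.1 _))]
  refine psi_twist f hdim ψ m ?_ _ _
  conv_lhs => rw [hm, map_mul, down_map, ← up_proj, down_up]

include hdim hdimK hξ' in
set_option maxHeartbeats 2000000 in
/-- The base change of a coarse Jacobian carries a universal class. -/
theorem exists_univ_bc (hJ : ModFun.IsBestApprox ⊤ (ModFun.PicDeg f d) J ψ)
    (haff : ∀ E : Set J'.left, E.Finite → ∃ U : J'.left.Opens, IsAffineOpen U ∧ E ⊆ U) :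
    ∃ (ξF : PicLoc.PicSet (PicF.XT (fK β f) (Red.bc β J))) (hξF : IsUnivClass (fK β f) d (Red.bc β J) ξF),
      ∀ (T : Over (Spec (CommRingCat.of F))) (c : PicLoc.PicSet (PicF.XT (fK β f) T))
        (hc : ∀ t, PicTan20.degCl (fK β f) T t c.1 = d),
        fm β (classify hξF c hc) = Psi f hdim ψ (down β f T c) (deg_down β f hdim hdimK c hc) := by
  classical
  -- the comparison morphism
  let m : J' ⟶ Red.bc β J := (Over.mapPullbackAdj β).homEquiv J' J
    (Psi f hdim ψ (down β f J' ξ') (deg_down β f hdim hdimK ξ' hξ'.1))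
  have hm : fm β m = Psi f hdim ψ (down β f J' ξ') (deg_down β f hdim hdimK ξ' hξ'.1) := Equiv.symm_apply_apply _ _
  -- the inverse, from the Weil restriction
  obtain ⟨R, q, hR⟩ := WeilExist.exists_isWeilRes_of_finite β J' fun s P hP _ => by
    obtain ⟨U, hU, hPU⟩ := haff P hP
    exact ⟨⊤, U, isAffineOpen_top _, hU, trivial, fun _ _ => trivial, hPU⟩
  let φR : (ModFun.PicDeg f d).Hom ⊤ R :=
    { app := fun T L _ hL => ((Equiv.ofBijective _ (hR T)).symm
        (classify hξ' (upT β f T (famCls f d hL)) (deg_upT β f hdim hdimK _ (degCl_famCls f hdim d hL))))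
      natural := by
        intro T T' g L _ _ hL hL'
        refine (hR T').1 ?_
        refine (Equiv.ofBijective_apply_symm_apply _ (hR T') _).trans (Eq.symm ((WeilRes.restr_comp β q g _).trans ?_))
        refine (congrArg ((Over.pullback β).map g ≫ ·) (Equiv.ofBijective_apply_symm_apply _ (hR T) _)).trans ?_
        have h : upT β f T' (famCls f d hL') = pc (PicF.XTmap (fK β f) ((Over.pullback β).map g)) (upT β f T (famCls f d hL)) := by
          rw [famCls_pull g hL hL', upT_map]
        have hd := h ▸ deg_upT β f hdim hdimK _ (degCl_famCls f hdim d hL')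
        rw [← classify_pc hξ' _ _ (deg_upT β f hdim hdimK _ (degCl_famCls f hdim d hL)) hd]
        congr 1
        exact h.symm
      resp := by
        intro T x y _ hx hy hr
        refine congrArg (Equiv.ofBijective _ (hR T)).symm ?_
        obtain ⟨m₀, hm₀⟩ := classify_spec hξ' _ (deg_upT β f hdim hdimK _ (degCl_famCls f hdim d hx))
        obtain ⟨m₁, hm₁⟩ := (r_iff f d ((M2.isInvertible_iff_isFinLocFreeOfRank_one x).2 hx.1.2)
          ((M2.isInvertible_iff_isFinLocFreeOfRank_one y).2 hy.1.2)).1 hr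
        refine eq_classify hξ' _ _ _ (m := m₀ * pc (Y' := (Red.bc β T).left) (fm β (𝟙 (Red.bc β T))).left m₁) ?_
        change famCls f d hy = famCls f d hx * pc (PicF.XTproj f T) m₁ at hm₁
        rw [hm₁, upT_mul, map_mul, ← _root_.mul_assoc, ← hm₀]
        congr 1
        show up β f _ (pc _ (pc _ m₁)) = _
        rw [PicRep20.pc_proj_map, up_proj]
        rfl }
  obtain ⟨a, ha, -⟩ := hJ R φR
  let f' : Red.bc β J ⟶ J' := WeilRes.restr β q J a
  have key : ∀ (T : Over (Spec (CommRingCat.of k))) (c : PicLoc.PicSet (PicF.XT f T))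
      (hc : ∀ t, PicTan20.degCl f T t c.1 = d),
      (Over.pullback β).map (Psi f hdim ψ c hc) ≫ f' = classify hξ' (upT β f T c) (deg_upT β f hdim hdimK c hc) := by
    intro T c hc
    have h := ha T (rep c) trivial (ok_rep f hdim c hc)
    have h2 := congrArg (WeilRes.restr β q T) h
    rw [WeilRes.restr_comp] at h2
    refine h2.symm.trans ((Equiv.ofBijective_apply_symm_apply _ (hR T) _).trans ?_)
    congr 1
    exact congrArg (upT β f T) (cls_rep c)
  have keyF : ∀ (T : Over (Spec (CommRingCat.of F))) (c : PicLoc.PicSet (PicF.XT (fK β f) T))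
      (hc : ∀ t, PicTan20.degCl (fK β f) T t c.1 = d) (x : T ⟶ Red.bc β J),
      fm β x = Psi f hdim ψ (down β f T c) (deg_down β f hdim hdimK c hc) → x ≫ f' = classify hξ' c hc := by
    intro T c hc x hx
    let ηT : T ⟶ Red.bc β ((Over.map β).obj T) := (Over.mapPullbackAdj β).unit.app T
    have hη : fm β ηT = 𝟙 _ := by
      rw [fm, Equiv.symm_apply_eq, Adjunction.homEquiv_id]
    have hx' : x = ηT ≫ (Over.pullback β).map (fm β x) := fm_injective β (by rw [fm_comp_map, hη, Category.id_comp])
    have he : pc (PicF.XTmap (fK β f) ηT) (upT β f _ (down β f T c)) = c := by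
      show pc _ (up β f _ (pc _ (down β f T c))) = c
      rw [← up_map, pc_map_map, map_fm β ηT, hη, HilbBC25.XTmap_id, pc_id, up_down]
    rw [hx', hx, Category.assoc, key, ← classify_pc hξ' ηT _ _ (fun t => by rw [he]; exact hc t)]
    congr 1
  have hmf : m ≫ f' = 𝟙 J' := by
    rw [keyF J' ξ' hξ'.1 m hm]
    refine (eq_classify hξ' ξ' hξ'.1 (𝟙 J') (m := 1) ?_).symm
    rw [HilbBC25.XTmap_id, pc_id, map_one, _root_.mul_one]
  -- the other composite: the equaliser contains every classifying point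
  let G₁ : (Over.map β).obj (Red.bc β J) ⟶ J := fm β (f' ≫ m)
  let G₂ : (Over.map β).obj (Red.bc β J) ⟶ J := fm β (𝟙 (Red.bc β J))
  have hpts : ∀ (T : Over (Spec (CommRingCat.of k))) (c : PicLoc.PicSet (PicF.XT f T))
      (hc : ∀ t, PicTan20.degCl f T t c.1 = d),
      (Over.map β).map ((Over.pullback β).map (Psi f hdim ψ c hc)) ≫ G₁ =
        (Over.map β).map ((Over.pullback β).map (Psi f hdim ψ c hc)) ≫ G₂ := by
    intro T c hc
    rw [← fm_comp, ← Category.assoc, key, fm_comp, hm, map_classify_psi β f hdim hdimK ψ hξ', map_fm, fm_map,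
      ← psi_pc f hdim ψ _ c hc (fun t => (PicTan20.degCl_pull f _ t c.2).trans (hc _))]
    refine psi_congr f hdim ψ ?_ _ _
    exact down_up β f _ _
  let P : pullback (pullback.diagonal J.hom)
      (pullback.lift G₁.left G₂.left ((Over.w G₁).trans (Over.w G₂).symm)) ⟶ (Red.bc β J).left := pullback.snd _ _
  let Dg := pullback.diagonal J.hom
  haveI : IsImmersion Dg := inferInstance
  haveI : IsImmersion P := MorphismProperty.pullback_snd _ _ inferInstance
  let π₀ : (Red.bc β J).left ⟶ J.left := pullback.fst J.hom β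
  haveI : IsFinite π₀ := MorphismProperty.pullback_fst _ _ inferInstance
  haveI : Flat π₀ := MorphismProperty.pullback_fst _ _ inferInstance
  haveI : LocallyOfFinitePresentation π₀ := MorphismProperty.pullback_fst _ _ inferInstance
  obtain ⟨Z, qZ, hZ⟩ := WeilExist.exists_isWeilRes_of_finite π₀ (Over.mk P) fun s E _ hE => by
    obtain ⟨V, hV, hsV, -⟩ := exists_isAffineOpen_mem_and_subset (U := (⊤ : J.left.Opens)) (x := s) trivial
    let W := π₀ ⁻¹ᵁ V
    haveI : IsAffine W := hV.preimage π₀
    haveI : IsImmersion (P ∣_ W) := IsZariskiLocalAtTarget.restrict (P := @IsImmersion) inferInstance W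
    obtain ⟨U, hU, hEU⟩ := FinAffine12.exists_affineOpen_of_finite (P ∣_ W) ((P ⁻¹ᵁ W).ι ⁻¹' E)
      (‹E.Finite›.preimage ((P ⁻¹ᵁ W).ι.isOpenEmbedding.injective.injOn))
    refine ⟨V, (P ⁻¹ᵁ W).ι ''ᵁ U, hV, hU.image_of_isOpenImmersion _, hsV, fun x hx => ?_, fun x hx => ?_⟩
    · obtain ⟨y, -, rfl⟩ := hx
      exact y.2
    · exact ⟨⟨x, show π₀ (P x) ∈ V from (hE x hx).symm ▸ hsV⟩, hEU hx, rfl⟩
  haveI : Mono (Over.mk P).hom := inferInstanceAs (Mono P)
  have huniqZ : ∀ {W : Over J.left} (g g' : W ⟶ Z), g = g' := fun g g' =>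
    (hZ _).1 (Over.OverMorphism.ext ((cancel_mono (Over.mk P).hom).1
      ((Over.w (WeilRes.restr π₀ qZ _ g)).trans (Over.w (WeilRes.restr π₀ qZ _ g')).symm)))
  have hfac : ∀ (T : Over (Spec (CommRingCat.of k))) (c : PicLoc.PicSet (PicF.XT f T))
      (hc : ∀ t, PicTan20.degCl f T t c.1 = d), Nonempty (Over.mk (Psi f hdim ψ c hc).left ⟶ Z) := by
    intro T c hc
    let x := Psi f hdim ψ c hc
    let ρ : pullback x.left π₀ ⟶ (Red.bc β T).left :=
      pullback.lift (pullback.fst _ _) (pullback.snd _ _ ≫ (Red.bc β J).hom) (by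
        rw [← Over.w x, ← Category.assoc, pullback.condition, Category.assoc, Category.assoc]
        exact congrArg (pullback.snd _ _ ≫ ·) pullback.condition)
    have hρ : ρ ≫ ((Over.pullback β).map x).left = pullback.snd x.left π₀ := by
      refine pullback.hom_ext ?_ ?_
      · refine (Category.assoc _ _ _).trans ((congrArg (ρ ≫ ·) (pullback.lift_fst _ _ _)).trans ?_)
        rw [← Category.assoc, pullback.lift_fst, pullback.condition]
      · refine (Category.assoc _ _ _).trans ((congrArg (ρ ≫ ·) (pullback.lift_snd _ _ _)).trans ?_)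
        exact pullback.lift_snd _ _ _
    have e0 := hpts T c hc
    have e := congrArg (fun h : (Over.map β).obj (Red.bc β T) ⟶ J => ρ ≫ h.left) e0
    have e' : pullback.snd x.left π₀ ≫ G₁.left = pullback.snd x.left π₀ ≫ G₂.left := by
      rw [← hρ, Category.assoc, Category.assoc]
      exact e
    have hw : (pullback.snd x.left π₀ ≫ G₁.left) ≫ Dg =
        pullback.snd x.left π₀ ≫ pullback.lift G₁.left G₂.left ((Over.w G₁).trans (Over.w G₂).symm) := by
      refine pullback.hom_ext ?_ ?_
      · simp [Dg]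
      · simp [Dg, e']
    let z : Red.bc π₀ (Over.mk x.left) ⟶ Over.mk P :=
      Over.homMk (pullback.lift (pullback.snd x.left π₀ ≫ G₁.left) (pullback.snd x.left π₀) hw) (pullback.lift_snd _ _ _)
    exact ⟨(Equiv.ofBijective _ (hZ _)).symm z⟩
  let N : Over (Spec (CommRingCat.of k)) := Over.mk (Z.hom ≫ J.hom)
  let π : N ⟶ J := Over.homMk Z.hom
  have hπ : ∀ {T : Over (Spec (CommRingCat.of k))} (g g' : T ⟶ N), g ≫ π = g' ≫ π → g = g' := by
    intro T g g' h
    have h' : g.left ≫ Z.hom = g'.left ≫ Z.hom := congrArg CommaMorphism.left h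
    exact Over.OverMorphism.ext (congrArg CommaMorphism.left
      (huniqZ (W := Over.mk (g.left ≫ Z.hom)) (Over.homMk g.left rfl) (Over.homMk g'.left h'.symm)) :)
  have hfacL : ∀ (T : Over (Spec (CommRingCat.of k))) (L : (ModFun.PicDeg f d).Fam T)
      (hL : (ModFun.PicDeg f d).ok T L), ∃ g : T ⟶ N, g ≫ π = ψ.app T L trivial hL := by
    intro T L hL
    obtain ⟨g⟩ := hfac T (famCls f d hL) (degCl_famCls f hdim d hL)
    refine ⟨Over.homMk g.left ?_, Over.OverMorphism.ext ?_⟩
    · show g.left ≫ Z.hom ≫ J.hom = T.hom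
      rw [← Category.assoc, Over.w g]
      exact Over.w (Psi f hdim ψ _ _)
    · show g.left ≫ Z.hom = _
      rw [psi_app f hdim ψ L hL _ (degCl_famCls f hdim d hL) rfl]
      exact Over.w g
  choose gL hgL using hfacL
  let φN : (ModFun.PicDeg f d).Hom ⊤ N :=
    { app := fun T L _ hL => gL T L hL
      natural := fun g L hT hT' hL hL' => hπ _ _ (by
        rw [Category.assoc, hgL, hgL]; exact ψ.natural g L hT hT' hL hL')
      resp := fun x y hT hx hy h => hπ _ _ (by rw [hgL, hgL]; exact ψ.resp x y hT hx hy h) }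
  obtain ⟨a', ha', -⟩ := hJ N φN
  have ha'π : a' ≫ π = 𝟙 J := (hJ J ψ).unique
    (fun T x hT hx => by rw [← Category.assoc, ← ha' T x hT hx]; exact (hgL T x hx).symm)
    (fun T x hT hx => (Category.comp_id _).symm)
  have hG : G₁.left = G₂.left := by
    let gJ : Over.mk (𝟙 J.left) ⟶ Z := Over.homMk a'.left (congrArg CommaMorphism.left ha'π)
    let z := WeilRes.restr π₀ qZ _ gJ
    let s : (Red.bc β J).left ⟶ pullback (𝟙 J.left) π₀ := pullback.lift π₀ (𝟙 _) (by simp)
    have hs : (s ≫ z.left) ≫ P = 𝟙 _ := by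
      rw [Category.assoc]
      exact (congrArg (s ≫ ·) (Over.w z)).trans (pullback.lift_snd _ _ _)
    have hc := congrArg (fun h => (s ≫ z.left) ≫ h) (pullback.condition (f := Dg)
      (g := pullback.lift G₁.left G₂.left ((Over.w G₁).trans (Over.w G₂).symm)))
    have h1 := congrArg (· ≫ pullback.fst J.hom J.hom) hc
    have h2 := congrArg (· ≫ pullback.snd J.hom J.hom) hc
    simp only [Category.assoc, Dg, pullback.diagonal_fst, pullback.diagonal_snd, pullback.lift_fst,
      pullback.lift_snd, Category.comp_id] at h1 h2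
    have h3 := h1.symm.trans h2
    rw [← Category.assoc z.left, ← Category.assoc s, ← Category.assoc z.left, ← Category.assoc s] at h3
    rw [Category.assoc] at hs
    change (s ≫ z.left ≫ P) ≫ G₁.left = (s ≫ z.left ≫ P) ≫ G₂.left at h3
    rw [hs, Category.id_comp, Category.id_comp] at h3
    exact h3
  have hfm : f' ≫ m = 𝟙 (Red.bc β J) := fm_injective β (Over.OverMorphism.ext hG)
  -- the universal class
  let ξF := pc (PicF.XTmap (fK β f) f') ξ'
  have hξF : IsUnivClass (fK β f) d (Red.bc β J) ξF := by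
    refine ⟨fun t => (PicTan20.degCl_pull (fK β f) f' t ξ'.2).trans (hξ'.1 _), fun T c hc => ?_⟩
    obtain ⟨g, ⟨m₀, hm₀⟩, hg⟩ := hξ'.2 T c hc
    refine ⟨g ≫ m, ⟨m₀, ?_⟩, fun g₁ ⟨m₁, hm₁⟩ => ?_⟩
    · rw [pc_map_map, Category.assoc, hmf, Category.comp_id]
      exact hm₀
    · rw [pc_map_map] at hm₁
      rw [← hg (g₁ ≫ f') ⟨m₁, hm₁⟩, Category.assoc, hfm, Category.comp_id]
  refine ⟨ξF, hξF, fun T c hc => ?_⟩
  have h : classify hξF c hc = classify hξ' c hc ≫ m := by
    obtain ⟨m₀, hm₀⟩ := classify_spec hξ' c hc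
    refine (eq_classify hξF c hc _ (m := m₀) ?_).symm
    rw [pc_map_map, Category.assoc, hmf, Category.comp_id]
    exact hm₀
  rw [h, fm_comp, hm, map_classify_psi β f hdim hdimK ψ hξ']

end Fine

end Groth.Agent.JacDeg22
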