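import Groth.Agent.Lib.JacDeg22.Translate
import Groth.Agent.S15990
import Groth.Agent.Lib.JacBC22.Theta

/-!
# Picard schemes of different degrees of a curve with a base point
-/

set_option autoImplicit false
set_option linter.style.haveILetI false
set_option linter.unusedSectionVars false
set_option backward.isDefEq.respectTransparency false
set_option backward.isDefEq.respectTransparency.types false
set_option maxHeartbeats 2000000
set_option synthInstance.maxHeartbeats 200000

universe u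

open CategoryTheory CategoryTheory.Limits AlgebraicGeometry TopologicalSpace Opposite MonoidalCategory
  CartesianMonoidalCategory MonObj

noncomputable section

namespace Groth.Agent.JacDeg22

open Groth.Agent.Abel10 (pc pc_comp pc_id)
open Groth.Agent.PicRep20

noncomputable local instance instLawSlice (Y : Scheme.{u}) : PicGrp.Law Y := M2.law Y

variable {k : Type u} [Field k] {X : Scheme.{u}} [X.Over (Spec (CommRingCat.of k))]
  [IsProper (X ↘ Spec (CommRingCat.of k))] [Smooth (X ↘ Spec (CommRingCat.of k))]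
  [GeometricallyConnected (X ↘ Spec (CommRingCat.of k))] [IsIntegral X]
  [GeometricallyIrreducible (X ↘ Spec (CommRingCat.of k))] (hdim : topologicalKrullDim X = 1)
  (σ : Spec (CommRingCat.of k) ⟶ X) (hσ : σ ≫ (X ↘ Spec (CommRingCat.of k)) = 𝟙 _) (d : ℤ)

variable {J₀ : Over (Spec (CommRingCat.of k))} {ξ₀ : PicLoc.PicSet (PicF.XT (X ↘ Spec (CommRingCat.of k)) J₀)}
  (hξ₀ : IsUnivClass (X ↘ Spec (CommRingCat.of k)) 0 J₀ ξ₀)

variable {ψ₀ : (ModFun.PicDeg (X ↘ Spec (CommRingCat.of k)) 0).Hom ⊤ J₀}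
  (hψ₀ : ∀ (T : Over (Spec (CommRingCat.of k))) (x : (ModFun.PicDeg (X ↘ Spec (CommRingCat.of k)) 0).Fam T)
    (hx : (ModFun.PicDeg (X ↘ Spec (CommRingCat.of k)) 0).ok T x),
    ψ₀.app T x trivial hx = classify hξ₀ (famCls _ 0 hx) (degCl_famCls _ hdim 0 hx))
  {J' : Over (Spec (CommRingCat.of k))} {ψ' : (ModFun.PicDeg (X ↘ Spec (CommRingCat.of k)) d).Hom ⊤ J'}
  {ξ' : PicLoc.PicSet (PicF.XT (X ↘ Spec (CommRingCat.of k)) J')}
  (hξ' : IsUnivClass (X ↘ Spec (CommRingCat.of k)) d J' ξ')
  (hψ' : ∀ (T : Over (Spec (CommRingCat.of k))) (x : (ModFun.PicDeg (X ↘ Spec (CommRingCat.of k)) d).Fam T)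
    (hx : (ModFun.PicDeg (X ↘ Spec (CommRingCat.of k)) d).ok T x),
    ψ'.app T x trivial hx = classify hξ' (famCls _ d hx) (degCl_famCls _ hdim d hx))

include hψ₀ hψ' in
/-- Translation identifies the theta bundles. -/
theorem exists_translate' {Θ' : J'.left.Modules}
    (hΘ' : Jac.IsThetaLB (X ↘ Spec (CommRingCat.of k)) d ψ' (Coh.structureModule X) Θ')
    {N : X.Modules} (hN : PicF.IsInvertible N) (hNc : PicGrp.cls N hN = degGen hdim σ hσ d) :
    ∃ e : J₀ ≅ J', (∀ (T : Over (Spec (CommRingCat.of k))) (c : PicLoc.PicSet (PicF.XT (X ↘ Spec (CommRingCat.of k)) T)) (hc hc'),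
      classify hξ' (c * cst T (degGen hdim σ hσ d)) hc' = classify hξ₀ c hc ≫ e.hom) ∧ Jac.IsThetaLB (X ↘ Spec (CommRingCat.of k)) 0 ψ₀ N ((Scheme.Modules.pullback e.hom.left).obj Θ') := by
  let f := X ↘ Spec (CommRingCat.of k)
  let a := degGen hdim σ hσ d
  let ξd := ξ₀ * cst J₀ a
  have hξd : IsUnivClass f d J₀ ξd := isUnivClass_shift hdim σ hσ d hξ₀
  let u : J₀ ⟶ J' := classify hξ' ξd hξd.1
  let v : J' ⟶ J₀ := classify hξd ξ' hξ'.1
  obtain ⟨mu, hmu⟩ := classify_spec hξ' ξd hξd.1
  obtain ⟨mv, hmv⟩ := classify_spec hξd ξ' hξ'.1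
  have huv : u ≫ v = 𝟙 J₀ := by
    rw [eq_classify hξd ξd hξd.1 (𝟙 J₀) (m := 1) (by rw [HilbBC25.XTmap_id, pc_id, map_one, _root_.mul_one])]
    refine eq_classify hξd ξd hξd.1 (u ≫ v) (m := pc u.left mv * mu) ?_
    rw [← JacBC22.pc_map_map f u v, map_mul (pc (PicF.XTproj f J₀)), ← PicRep20.pc_proj_map (f := f) u mv, ← _root_.mul_assoc, ← map_mul, ← hmv]
    exact hmu
  have hvu : v ≫ u = 𝟙 J' := by
    rw [eq_classify hξ' ξ' hξ'.1 (𝟙 J') (m := 1) (by rw [HilbBC25.XTmap_id, pc_id, map_one, _root_.mul_one])]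
    refine eq_classify hξ' ξ' hξ'.1 (v ≫ u) (m := pc v.left mu * mv) ?_
    rw [← JacBC22.pc_map_map f v u, map_mul (pc (PicF.XTproj f J')), ← PicRep20.pc_proj_map (f := f) v mu, ← _root_.mul_assoc, ← map_mul, ← hmu]
    exact hmv
  let e : J₀ ≅ J' := ⟨u, v, huv, hvu⟩
  have key : ∀ (T : Over (Spec (CommRingCat.of k))) (L L' : (PicF.XT f T).Modules) (hL : (ModFun.PicDeg f 0).ok T L)
      (hL' : (ModFun.PicDeg f d).ok T L'), famCls f d hL' = famCls f 0 hL * cst T a →
      ψ'.app T L' trivial hL' = ψ₀.app T L trivial hL ≫ u := by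
    intro T L L' hL hL' h
    rw [hψ₀, hψ']
    obtain ⟨m, hm⟩ := classify_spec hξ₀ (famCls f 0 hL) (degCl_famCls f hdim 0 hL)
    refine (eq_classify hξ' _ _ _ (m := pc (classify hξ₀ (famCls f 0 hL) (degCl_famCls f hdim 0 hL)).left mu * m) ?_).symm
    rw [← JacBC22.pc_map_map f _ u, map_mul (pc (PicF.XTproj f T)), ← PicRep20.pc_proj_map (f := f) _ mu, ← _root_.mul_assoc, ← map_mul, ← hmu, map_mul,
      cst_map, mul_right_comm, ← hm]
    exact h
  have hsec : ∀ {Ω : Type u} [Field Ω] (s : Spec (CommRingCat.of Ω) ⟶ Spec (CommRingCat.of k))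
      (L L' : (PicF.XT f (Over.mk s)).Modules) (hL : (ModFun.PicDeg f 0).ok (Over.mk s) L)
      (hL' : (ModFun.PicDeg f d).ok (Over.mk s) L'), famCls f d hL' = famCls f 0 hL * cst (Over.mk s) a →
      (Subsingleton (Coh.HH (PicF.XT f (Over.mk s)) (CohB1.tensorMod L ((Scheme.Modules.pullback (pullback.fst f s)).obj N)) 0) ↔
        Subsingleton (Coh.HH (PicF.XT f (Over.mk s))
          (CohB1.tensorMod L' ((Scheme.Modules.pullback (pullback.fst f s)).obj (Coh.structureModule X))) 0)) := by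
    intro Ω _ s L L' hL hL' h
    have hLi := (M2.isInvertible_iff_isFinLocFreeOfRank_one L).2 hL.1.2
    have hL'i := (M2.isInvertible_iff_isFinLocFreeOfRank_one L').2 hL'.1.2
    have hNs := PicLoc.isInvertible_pullback (pullback.fst f s) hN
    have hOs := PicLoc.isInvertible_pullback (pullback.fst f s) (PicLoc.isInvertible_structureModule X)
    have hc : PicGrp.cls _ (M2.isInvertible_tensor hLi hNs) = PicGrp.cls _ (M2.isInvertible_tensor hL'i hOs) := by
      rw [← AlgEquiv22.cls_tensor hLi hNs, ← AlgEquiv22.cls_tensor hL'i hOs,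
        ← PicGrp.pullHom_cls (pullback.fst f s) (M2.pullMul _) N hN, hNc,
        ← PicGrp.pullHom_cls (pullback.fst f s) (M2.pullMul _) _ (PicLoc.isInvertible_structureModule X),
        PicGrp.cls_structureModule_eq_one, map_one, _root_.mul_one]
      exact h.symm
    obtain ⟨i⟩ := (PicGrp.cls_eq_cls_iff _ _).1 hc
    exact ⟨fun h => AffStratVan4.subsingleton_HH_congr i 0 h, fun h => AffStratVan4.subsingleton_HH_congr i.symm 0 h⟩
  have hjump : Jac.jumpLocus f 0 ψ₀ N = u.left ⁻¹' Jac.jumpLocus f d ψ' (Coh.structureModule X) := by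
    ext x
    constructor
    · rintro ⟨Ω, iF, iA, s, hP, L, hL, hQ, p, hp⟩
      obtain ⟨L', hL', hL'c⟩ := PicGrp.exists_eq_cls (famCls f 0 hL * cst (Over.mk s) a)
      have hok : (ModFun.PicDeg f d).ok (Over.mk s) L' := ok_of_class f hdim d hL' fun r => by
        rw [← PicGrp.cls_val L' hL', ← hL'c]
        exact deg_shift hdim σ hσ d (degCl_famCls f hdim 0 hL) r
      refine ⟨Ω, iF, iA, s, trivial, L', hok, fun h => hQ ((hsec s L L' hL hok hL'c.symm).2 h), p, ?_⟩
      show (ψ'.app (Over.mk s) L' trivial hok).left p = u.left x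
      rw [key _ L L' hL hok hL'c.symm, Over.comp_left, Scheme.Hom.comp_apply]
      exact congrArg _ hp
    · rintro ⟨Ω, iF, iA, s, hP, L', hL', hQ, p, hp⟩
      obtain ⟨L, hL, hLc⟩ := PicGrp.exists_eq_cls (famCls f d hL' * (cst (Over.mk s) a)⁻¹)
      have hok : (ModFun.PicDeg f 0).ok (Over.mk s) L := ok_of_class f hdim 0 hL fun r => by
        rw [← PicGrp.cls_val L hL, ← hLc]
        exact deg_unshift hdim σ hσ d (degCl_famCls f hdim d hL') r
      have h : famCls f d hL' = famCls f 0 hok * cst (Over.mk s) a := by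
        rw [show famCls f 0 hok = _ from hLc.symm, inv_mul_cancel_right]
      refine ⟨Ω, iF, iA, s, trivial, L, hok, fun h' => hQ ((hsec s L L' hok hL' h).1 h'), p, ?_⟩
      haveI : IsIso u := ⟨v, huv, hvu⟩
      haveI : IsIso u.left := inferInstanceAs (IsIso ((Over.forget _).map u))
      refine u.left.homeomorph.injective ?_
      show u.left ((ψ₀.app (Over.mk s) L trivial hok).left p) = u.left x
      rw [← Scheme.Hom.comp_apply, ← Over.comp_left, ← key _ L L' hok hL' h]
      exact hp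
  haveI : IsIso u := ⟨v, huv, hvu⟩
  haveI : IsIso u.left := inferInstanceAs (IsIso ((Over.forget _).map u))
  let vI := Scheme.IdealSheafData.vanishingIdeal
    (⟨Jac.thetaLocus f d ψ' (Coh.structureModule X), isClosed_closure⟩ : Closeds J'.left)
  have hinv : BlowUp.IsEffCartierIdeal vI :=
    SecDiv.isEffCartierIdeal_of_isInvertible vI (by
      obtain ⟨i⟩ := hΘ'.2
      obtain ⟨D, hD, ⟨eD⟩⟩ := M2.exists_inverse hΘ'.1
      exact M2.isInvertible_of_iso (M2.inverseUnique eD i) hD)
  have hE := BlowUp26.isEffCartierIdeal_comap_flat hinv u.left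
  have hl : vI.comap u.left = Scheme.IdealSheafData.vanishingIdeal
      ⟨Jac.thetaLocus f 0 ψ₀ N, isClosed_closure⟩ := by
    refine (NodeBlow14.comap_vanishingIdeal u.left _).trans (congrArg _ (Closeds.ext ?_))
    show u.left ⁻¹' closure (Jac.jumpLocus _ d ψ' _) = closure (Jac.jumpLocus _ 0 ψ₀ N)
    rw [hjump]
    exact u.left.homeomorph.preimage_closure _
  refine ⟨e, fun T c hc hc' => ?_, PicLoc.isInvertible_pullback u.left hΘ'.1, ?_⟩
  · obtain ⟨m, hm⟩ := classify_spec hξ₀ c hc
    refine (eq_classify hξ' _ _ _ (m := pc (classify hξ₀ c hc).left mu * m) ?_).symm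
    rw [← JacBC22.pc_map_map f _ u, map_mul (pc (PicF.XTproj f T)), ← PicRep20.pc_proj_map (f := f) _ mu, ← _root_.mul_assoc, ← map_mul, ← hmu, map_mul,
      cst_map, mul_right_comm, ← hm]
  show ClSub.IsInverseOf _ (ClSub.idealMod _)
  rw [← hl]
  refine (PicGrp.cls_mul_cls_eq_one_iff (PicLoc.isInvertible_pullback u.left hΘ'.1) (M2.isInvertible_idealMod _ hE)).1 ?_
  rw [← PicGrp.pullHom_cls u.left (M2.pullMul u.left) Θ' hΘ'.1]
  show pc u.left _ * _ = 1
  rw [← Riemann22.cls_comap u.left hinv hE, ← map_mul, (PicGrp.cls_mul_cls_eq_one_iff hΘ'.1 _).2 hΘ'.2, map_one]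


end Groth.Agent.JacDeg22

namespace Groth.Agent.JacDeg22

open Groth.Agent.Abel10 (pc pc_comp pc_id)
open Groth.Agent.PicRep20

section Graph

/-- Ideals of closed immersions under pullback. -/
theorem pc_ker {A B U V : Scheme.{u}} (g : A ⟶ B) (s : U ⟶ A) (t : V ⟶ B) [IsClosedImmersion t] (h : U ⟶ V)
    (sq : IsPullback s h g t) (hs : BlowUp.IsEffCartierIdeal s.ker) (ht : BlowUp.IsEffCartierIdeal t.ker) :
    pc g (PicGrp.cls _ (M2.isInvertible_idealMod _ ht)) = PicGrp.cls _ (M2.isInvertible_idealMod _ hs) := by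
  have e : t.ker.comap g = s.ker := by
    rw [← Scheme.IdealSheafData.ker_fst_of_isClosedImmersion t g, ← Scheme.Hom.ker_comp_of_isIso sq.isoPullback.hom,
      sq.isoPullback_hom_fst]
  have h' : BlowUp.IsEffCartierIdeal (t.ker.comap g) := by rw [e]; exact hs
  exact (Riemann22.cls_comap g ht h').trans (Riemann22.cls_congr e h' hs)

variable {S X : Scheme.{u}} (f : X ⟶ S) [IsSeparated f] [SmoothOfRelativeDimension 1 f]

/-- The graph of a morphism to the curve. -/
abbrev gr {T : Over S} (x : T ⟶ Over.mk f) : T.left ⟶ PicF.XT f T :=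
  pullback.lift x.left (𝟙 T.left) ((Over.w x).trans (Category.id_comp T.hom).symm)

theorem isEff_gr {T : Over S} (x : T ⟶ Over.mk f) : BlowUp.IsEffCartierIdeal (gr f x).ker := by
  haveI := smoothOfRelativeDimension_isStableUnderBaseChange 1
  haveI : SmoothOfRelativeDimension 1 (pullback.snd f T.hom) :=
    MorphismProperty.of_isPullback (P := @SmoothOfRelativeDimension 1) (IsPullback.of_hasPullback f T.hom) inferInstance
  exact (S15990.result (pullback.snd f T.hom) (gr f x) (pullback.lift_snd _ _ _)).1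

/-- The class of the ideal of a graph. -/
def grCls {T : Over S} (x : T ⟶ Over.mk f) : PicLoc.PicSet (PicF.XT f T) :=
  PicGrp.cls _ (M2.isInvertible_idealMod _ (isEff_gr f x))

theorem isEff_diag : BlowUp.IsEffCartierIdeal (pullback.diagonal f).ker := by
  haveI := smoothOfRelativeDimension_isStableUnderBaseChange 1
  haveI : SmoothOfRelativeDimension 1 (pullback.snd f f) :=
    MorphismProperty.of_isPullback (P := @SmoothOfRelativeDimension 1) (IsPullback.of_hasPullback f f) inferInstance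
  exact (S15990.result (pullback.snd f f) (pullback.diagonal f) (pullback.diagonal_snd _)).1

theorem grCls_eq {T : Over S} (x : T ⟶ Over.mk f) :
    grCls f x = pc (PicF.XTmap f x) (PicGrp.cls _ (M2.isInvertible_idealMod _ (isEff_diag f))) := by
  refine (pc_ker _ _ _ x.left ?_ (isEff_gr f x) (isEff_diag f)).symm
  refine (IsPullback.of_bot ?_ ?_ (HilbBC25.isPullback_XTmap f x)).flip
  · rw [show gr f x ≫ PicF.XTproj f T = 𝟙 _ from pullback.lift_snd _ _ _,
      show pullback.diagonal f ≫ PicF.XTproj f (Over.mk f) = 𝟙 _ from pullback.diagonal_snd _]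
    haveI : IsIso (𝟙 X) := IsIso.id _
    haveI : IsIso (𝟙 (Over.mk f).left) := IsIso.id _
    haveI : IsIso (𝟙 T.left) := IsIso.id _
    exact IsPullback.of_vert_isIso ⟨(Category.comp_id _).trans (Category.id_comp _).symm⟩
  · apply pullback.hom_ext
    · rw [Category.assoc, Category.assoc, show pullback.diagonal f ≫ pullback.fst f (Over.mk f).hom = 𝟙 X from pullback.diagonal_fst f]
      refine (Category.comp_id x.left).trans ?_
      exact ((congrArg (gr f x ≫ ·) (HilbBC25.XTmap_fst f x)).trans (pullback.lift_fst _ _ _)).symm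
    · rw [Category.assoc, Category.assoc, show pullback.diagonal f ≫ pullback.snd f (Over.mk f).hom = 𝟙 X from pullback.diagonal_snd f]
      refine (Category.comp_id x.left).trans ?_
      have e : PicF.XTmap f x ≫ pullback.snd _ _ = pullback.snd _ _ ≫ x.left := pullback.lift_snd _ _ _
      exact ((congrArg (gr f x ≫ ·) e).trans ((Category.assoc _ _ _).symm.trans
        ((congrArg (· ≫ x.left) (pullback.lift_snd _ _ _)).trans (Category.id_comp _)))).symm

end Graph

end Groth.Agent.JacDeg22
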