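import Groth.Agent.Lib.JacDeg22.Point
import Groth.Agent.Lib.JacDeg22.Slice
import Groth.Agent.Lib.JacDeg22.Iso
import Groth.Agent.Lib.PtsDetect19.Basic

/-!
# The pull back of theta along subtraction of a point, at geometric points
-/

set_option autoImplicit false
set_option linter.style.haveILetI false
set_option linter.unusedSectionVars false
set_option backward.isDefEq.respectTransparency false
set_option backward.isDefEq.respectTransparency.types false
set_option maxHeartbeats 2000000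
set_option synthInstance.maxHeartbeats 200000

universe u

open CategoryTheory CategoryTheory.Limits AlgebraicGeometry Opposite MonoidalCategory CartesianMonoidalCategory MonObj
open scoped CategoryTheory.Obj

noncomputable section

namespace Groth.Agent.JacDeg22

open Groth.Agent.Abel10 (pc pc_comp pc_id)
open Groth.Agent.PicRep20 Groth.Agent.JacPts22 Groth.Agent.JacBC22 Groth.Agent.Riemann22

noncomputable local instance instLawCore (Y : Scheme.{u}) : PicGrp.Law Y := M2.law Y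

variable {k : Type u} [Field k] {F : Type u} [Field F]
  (β : Spec (CommRingCat.of F) ⟶ Spec (CommRingCat.of k))
  {X : Scheme.{u}} [X.Over (Spec (CommRingCat.of k))]
  [IsProper (X ↘ Spec (CommRingCat.of k))] [Smooth (X ↘ Spec (CommRingCat.of k))]
  [GeometricallyConnected (X ↘ Spec (CommRingCat.of k))] [IsIntegral X]
  [GeometricallyIrreducible (X ↘ Spec (CommRingCat.of k))] (hdim : topologicalKrullDim X = 1)
  [IsFinite β] [Etale β]
  [IsProper (CK β X ↘ Spec (CommRingCat.of F))] [Smooth (CK β X ↘ Spec (CommRingCat.of F))]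
  [GeometricallyConnected (CK β X ↘ Spec (CommRingCat.of F))] [IsIntegral (CK β X)]
  [GeometricallyIrreducible (CK β X ↘ Spec (CommRingCat.of F))]
  [IsProper (fK β (X ↘ Spec (CommRingCat.of k)))] [Smooth (fK β (X ↘ Spec (CommRingCat.of k)))]
  [GeometricallyConnected (fK β (X ↘ Spec (CommRingCat.of k)))]
  [GeometricallyIrreducible (fK β (X ↘ Spec (CommRingCat.of k)))]
  (hdimF : topologicalKrullDim (CK β X) = 1)
  {σF : Spec (CommRingCat.of F) ⟶ CK β X} (hσF : σF ≫ (CK β X ↘ Spec (CommRingCat.of F)) = 𝟙 _)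
  {J₀ : Over (Spec (CommRingCat.of F))} [GrpObj J₀] [IsCommMonObj J₀]
  {ψ₀ : (ModFun.PicDeg (CK β X ↘ Spec (CommRingCat.of F)) 0).Hom ⊤ J₀}
  (hJ₀ : Jac.IsJacobian (CK β X ↘ Spec (CommRingCat.of F)) ⊤ J₀ ψ₀)
  {j₀ : Over.mk (CK β X ↘ Spec (CommRingCat.of F)) ⟶ J₀}
  (hj₀ : Jac.IsAbelJacobiAt (CK β X ↘ Spec (CommRingCat.of F)) σF ψ₀ j₀)
  {ξ₀ : PicLoc.PicSet (PicF.XT (CK β X ↘ Spec (CommRingCat.of F)) J₀)}
  (hξ₀ : IsUnivClass (CK β X ↘ Spec (CommRingCat.of F)) 0 J₀ ξ₀)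
  (hψ₀ : ∀ (T : Over (Spec (CommRingCat.of F))) (x : (ModFun.PicDeg (CK β X ↘ Spec (CommRingCat.of F)) 0).Fam T)
    (hx : (ModFun.PicDeg (CK β X ↘ Spec (CommRingCat.of F)) 0).ok T x),
    ψ₀.app T x trivial hx = classify hξ₀ (famCls _ 0 hx) (degCl_famCls _ hdimF 0 hx))
  {n : ℕ} {g d : ℤ} (hg : g = (n : ℤ) + 1) (hd : d = (n : ℤ))
  {J' : Over (Spec (CommRingCat.of k))}
  {ψ' : (ModFun.PicDeg (X ↘ Spec (CommRingCat.of k)) d).Hom ⊤ J'}
  {ξ' : PicLoc.PicSet (PicF.XT (fK β (X ↘ Spec (CommRingCat.of k))) (Red.bc β J'))}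
  (hξ' : IsUnivClass (fK β (X ↘ Spec (CommRingCat.of k))) d (Red.bc β J') ξ')
  (hfm' : ∀ (T : Over (Spec (CommRingCat.of F))) (c : PicLoc.PicSet (PicF.XT (fK β (X ↘ Spec (CommRingCat.of k))) T))
    (hc : ∀ t, PicTan20.degCl (fK β (X ↘ Spec (CommRingCat.of k))) T t c.1 = d),
    fm β (classify hξ' c hc) = Psi (X ↘ Spec (CommRingCat.of k)) hdim ψ' (down β (X ↘ Spec (CommRingCat.of k)) T c)
      (deg_down β (X ↘ Spec (CommRingCat.of k)) hdim hdimF c hc))
  (e : J₀ ≅ Red.bc β J')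
  (he : ∀ (T : Over (Spec (CommRingCat.of F))) (c : PicLoc.PicSet (PicF.XT (CK β X ↘ Spec (CommRingCat.of F)) T)) (hc hc'),
    classify hξ' (c * cst T (degGen hdimF σF hσF d)) hc' = classify hξ₀ c hc ≫ e.hom)
  {Θ' : J'.left.Modules} (hΘi : PicF.IsInvertible Θ')
  {N : (CK β X).Modules} (hN : PicF.IsInvertible N) (hNc : PicGrp.cls N hN = degGen hdimF σF hσF d)
  (hΘ₀ : Jac.IsThetaLB (CK β X ↘ Spec (CommRingCat.of F)) 0 ψ₀ N
    ((Scheme.Modules.pullback e.hom.left).obj ((Scheme.Modules.pullback (pullback.fst J'.hom β)).obj Θ')))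

include hdim hdimF hσF hJ₀ hj₀ hψ₀ hg hd hfm' he hΘi hN hNc hΘ₀

/-- Theta pulled back along subtraction of the moving point from a class. -/
theorem core (hgen : Curv2.genus F (CK β X) = n + 1) {K : Type u} [Field K] [IsAlgClosed K]
    (t : Spec (CommRingCat.of K) ⟶ Spec (CommRingCat.of F))
    (c : PicLoc.PicSet (PicF.XT (CK β X ↘ Spec (CommRingCat.of F)) (Over.mk t)))
    (hc : ∀ r, PicTan20.degCl (CK β X ↘ Spec (CommRingCat.of F)) (Over.mk t) r c.1 = g)
    [SmoothOfRelativeDimension 1 (CK β X ↘ Spec (CommRingCat.of F))] :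
    ∀ (TF : Over (Spec (CommRingCat.of F))) (hTF : TF = Over.mk (PicF.XTproj (CK β X ↘ Spec (CommRingCat.of F)) (Over.mk t) ≫ t)),
    ∀ (x : TF ⟶ Over.mk (CK β X ↘ Spec (CommRingCat.of F))) (q : TF ⟶ Over.mk t),
      x.left = eqToHom (by rw [hTF]; rfl) ≫ pullback.fst (CK β X ↘ Spec (CommRingCat.of F)) t →
      q.left = eqToHom (by rw [hTF]; rfl) ≫ PicF.XTproj (CK β X ↘ Spec (CommRingCat.of F)) (Over.mk t) →
      ∃ hc', pc (Y' := TF.left) (fm β (classify hξ' (pc (PicF.XTmap (CK β X ↘ Spec (CommRingCat.of F)) q) c *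
          grCls (CK β X ↘ Spec (CommRingCat.of F)) x) hc')).left (PicGrp.cls Θ' hΘi) =
        pc (eqToHom (by rw [hTF]; rfl)) c := by
  rintro _ rfl x q hx hq
  classical
  simp only [eqToHom_refl, Category.id_comp] at hx hq
  obtain rfl : x = Over.homMk (pullback.fst (CK β X ↘ Spec (CommRingCat.of F)) t) pullback.condition :=
    Over.OverMorphism.ext hx
  obtain rfl : q = Over.homMk (PicF.XTproj (CK β X ↘ Spec (CommRingCat.of F)) (Over.mk t)) rfl :=
    Over.OverMorphism.ext hq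
  let f := X ↘ Spec (CommRingCat.of k)
  let pF := CK β X ↘ Spec (CommRingCat.of F)
  obtain ⟨hJp, -, -⟩ := jacobian_props hdimF σF hσF hJ₀
  haveI := hJp
  haveI : IsSeparated J₀.hom := AbRigid.isSeparated_of_grpObj J₀
  obtain ⟨h1, h2, h3, h4, h5, hdimK, hgK⟩ := setup (C := CK β X) t hdimF
  haveI := h1; haveI := h2; haveI := h3; haveI := h4; haveI := h5
  obtain ⟨ψK, hJK, hψK⟩ := exists_jacobian_bc t hdimF hdimK hξ₀ hψ₀ hJ₀
  obtain ⟨σK, hσK, jK, hfst, hjK, hflj⟩ := exists_abel_bc t hdimF hdimK hξ₀ hψ₀ hψK hJK hσF hj₀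
  let pK := CK t (CK β X) ↘ Spec (CommRingCat.of K)
  let P0 := Abel10.ptCls hdimF σF hσF
  let c₀ := c * (cst (X := CK β X) (Over.mk t) (degGen hdimF σF hσF g))⁻¹
  have hc₀ : ∀ r, PicTan20.degCl pF (Over.mk t) r c₀.1 = 0 := deg_unshift hdimF σF hσF g hc
  let w₀ := classify hξ₀ c₀ hc₀
  obtain ⟨a, ha⟩ := JacBC22.flPt_surjective t w₀
  have hia : iota hdimK (Red.bc t J₀) ψK hJK a = c₀ := by
    rw [iota_eq_pc t hdimF hdimK hξ₀ hψK hJK, ha]
    obtain ⟨m, hm⟩ := classify_spec hξ₀ c₀ hc₀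
    rw [show m = 1 by
      obtain ⟨M, hM, rfl⟩ := PicGrp.exists_eq_cls m
      exact (PicGrp.cls_eq_one_iff _).2 (CubeField.nonempty_trivial_field _ hM), map_one, _root_.mul_one] at hm
    exact hm.symm
  have hcN : cN hdimK σK hσK ψK hJK (n + 1) a = c := by
    rw [cN, hia, ← extCls_pt hdimF t hσF hj₀ σK hσK hfst]
    show c * (cst (X := CK β X) (Over.mk t) (degGen hdimF σF hσF g))⁻¹ * (cst (X := CK β X) (Over.mk t) P0 ^ (n + 1))⁻¹ = c
    rw [degGen, map_zpow, zpow_neg, inv_inv, _root_.mul_assoc, ← zpow_natCast, hg]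
    push_cast
    rw [mul_inv_cancel, _root_.mul_one]
  have hNdeg : Curv2.deg F (CK β X) N 1 = n := by
    rw [← JacBC22.degCl_fst (C := CK β X) hdimF hN (IsLocalRing.closedPoint F : (JacPts22.T₀ F).left)]
    have h := degCl_degGen hdimF σF hσF d (JacPts22.T₀ F) (IsLocalRing.closedPoint F)
    rw [← hNc] at h
    exact h.trans hd
  have hNc' : PicGrp.cls N hN * P0 ^ n = 1 := by
    rw [hNc, degGen, zpow_neg, hd, zpow_natCast, inv_mul_cancel]
  have hA := theta_anchor hdimF hJ₀ hσF hj₀ t hdimK hJK hσK hjK hflj hgen (hgK.trans hgen) hN hNdeg hNc' hΘ₀ a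
  rw [hcN] at hA
  -- the morphism from the curve over the larger field
  let TF : Over (Spec (CommRingCat.of F)) := Over.mk (PicF.XTproj pF (Over.mk t) ≫ t)
  let x : TF ⟶ Over.mk pF := Over.homMk (pullback.fst pF t) pullback.condition
  let q : TF ⟶ Over.mk t := Over.homMk (PicF.XTproj pF (Over.mk t)) rfl
  let v : TF ⟶ J₀ := (q ≫ w₀) * (x ≫ j₀)⁻¹
  let vK : Over.mk pK ⟶ Red.bc t J₀ := Over.homMk (pullback.lift v.left pK (Over.w v)) (pullback.lift_snd _ _ _)
  have hvK : vK = hMap jK a := by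
    haveI : IsSeparated (Red.bc t J₀).hom := inferInstanceAs (IsSeparated (pullback.snd J₀.hom t))
    haveI : LocallyOfFiniteType (Over.mk pK).hom := inferInstanceAs (LocallyOfFiniteType pK)
    haveI : GeometricallyReduced (Over.mk pK).hom := by
      haveI : GeometricallyIntegral pK := PicSep22.geometricallyIntegral_of_smooth pK
      exact (inferInstance : GeometricallyReduced pK)
    refine PtsDetect19.hom_ext_points K _ _ fun s => ?_
    let z : 𝟙_ (Over (Spec (CommRingCat.of K))) ⟶ Over.mk pK := Over.homMk s.left (by simpa using Over.w s)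
    suffices h : z ≫ vK = z ≫ hMap jK a by
      refine Over.OverMorphism.ext ?_
      exact (congrArg CommaMorphism.left h : z.left ≫ _ = z.left ≫ _)
    refine flPt_injective t ?_
    let y : Over.mk t ⟶ TF := Over.homMk z.left (by
      show z.left ≫ PicF.XTproj pF (Over.mk t) ≫ t = t
      rw [← Category.assoc]
      exact (congrArg (· ≫ t) (Over.w z)).trans (Category.id_comp t))
    have hfl : ∀ (r : 𝟙_ (Over (Spec (CommRingCat.of K))) ⟶ Red.bc t J₀), (flPt t r).left = r.left ≫ pullback.fst J₀.hom t := by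
      intro r
      simp [DiagGL.fl, Adjunction.homEquiv_counit]
    have e1 : flPt t (z ≫ vK) = y ≫ v := by
      refine Over.OverMorphism.ext ?_
      rw [hfl, Over.comp_left, Over.comp_left, Category.assoc]
      exact congrArg (z.left ≫ ·) (pullback.lift_fst _ _ _)
    have e2 : y ≫ q = 𝟙 _ := Over.OverMorphism.ext (Over.w z)
    have e3 : y ≫ x = flC t z := Over.OverMorphism.ext rfl
    let Φ : (𝟙_ (Over (Spec (CommRingCat.of K))) ⟶ Red.bc t J₀) →* (Over.mk t ⟶ J₀) :=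
      MonoidHom.mk' (flPt t) (flPt_mul t)
    rw [e1, MonObj.comp_mul, GrpObj.comp_inv, ← Category.assoc, ← Category.assoc, e2, Category.id_comp, e3, ← hflj z, ← ha,
      MonObj.comp_mul, GrpObj.comp_inv, ← Category.assoc, toUnit_unique (z ≫ toUnit _) (𝟙 _), Category.id_comp]
    show Φ a * (Φ (z ≫ jK))⁻¹ = Φ ((z ≫ jK)⁻¹ * a)
    rw [map_mul, map_inv, _root_.mul_comm]
  have hvc : pc (Y' := TF.left) v.left (PicGrp.cls _ hΘ₀.1) = c := by
    refine Eq.trans ?_ hA
    rw [← hvK]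
    exact (pc_comp _ _ (pullback.lift_fst _ _ _) _).symm
  -- the class of the difference
  obtain ⟨hP, L, hL, hAJ, hLj⟩ := hj₀
  haveI : SmoothOfRelativeDimension 1 f := CurveCartier25.smoothOfRelativeDimension_one f hdim
  let cL := pc (PicF.XTmap pF x) (famCls pF 0 hL)
  have hcL : ∀ r, PicTan20.degCl pF TF r cL.1 = 0 := fun r =>
    (PicTan20.degCl_pull pF x r (famCls pF 0 hL).2).trans (degCl_famCls pF hdimF 0 hL _)
  have hcL' : ∀ r, PicTan20.degCl pF TF r cL⁻¹.1 = 0 := fun r => by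
    rw [degCl_inv _ hdimF, hcL, neg_zero]
  have hq₀ : ∀ r, PicTan20.degCl pF TF r (pc (PicF.XTmap pF q) c₀).1 = 0 := fun r =>
    (PicTan20.degCl_pull pF q r c₀.2).trans (hc₀ _)
  have hgr : grCls pF x = cL⁻¹ * cst (X := CK β X) TF P0 := by
    rw [grCls_eq, eq_inv_mul_iff_mul_eq, show cL = pc (PicF.XTmap pF x) (PicGrp.cls L hAJ.1) from rfl, ← map_mul,
      AlgEquiv22.cls_tensor, ← cst_map x]
    congr 1
    exact ((PicGrp.cls_eq_cls_iff _ (PicLoc.isInvertible_pullback _ (Abel10.isInvertible_point hdimF σF hσF))).2 hAJ.2).trans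
      (PicGrp.pullHom_cls _ _ _ _).symm
  let c' := pc (PicF.XTmap pF q) c * grCls pF x
  have hc'eq : c' = pc (PicF.XTmap pF q) c₀ * cL⁻¹ * cst (X := CK β X) TF (degGen hdimF σF hσF d) := by
    have h : degGen hdimF σF hσF g * P0 = degGen hdimF σF hσF d := by
      rw [degGen, degGen, hg, hd]
      show P0 ^ _ * P0 = P0 ^ _
      rw [← zpow_add_one]
      congr 1
      ring
    rw [← h]
    show _ = pc (PicF.XTmap pF q) (c * (cst (X := CK β X) (Over.mk t) (degGen hdimF σF hσF g))⁻¹) * _ * _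
    rw [map_mul (pc (PicF.XTmap pF q))]
    have ei : pc (PicF.XTmap pF q) ((cst (X := CK β X) (Over.mk t) (degGen hdimF σF hσF g))⁻¹) =
      (cst (X := CK β X) TF (degGen hdimF σF hσF g))⁻¹ := (map_inv _ _).trans (congrArg (·⁻¹) (cst_map q _))
    refine ((congrArg (pc (PicF.XTmap pF q) c * ·) hgr).trans (slice_aux _ (cst (X := CK β X) TF (degGen hdimF σF hσF g)) _ _).symm).trans ?_
    exact congrArg₂ (· * ·) (congrArg (· * cL⁻¹) (congrArg (pc (PicF.XTmap pF q) c * ·) ei.symm)) (map_mul _ _ _).symm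
  have hd₁ := deg_mul₀ hdimF hq₀ hcL'
  have hc' : ∀ r, PicTan20.degCl pF TF r c'.1 = d := hc'eq ▸ deg_shift hdimF σF hσF d hd₁
  have hv : classify hξ' c' hc' = v ≫ e.hom := by
    have h := he TF _ hd₁ (deg_shift hdimF σF hσF d hd₁)
    rw [classify_mul hdimF hξ₀ hψ₀ hJ₀ _ _ hq₀ hcL', classify_inv hdimF hξ₀ hψ₀ hJ₀ _ hcL hcL',
      classify_pc hξ₀ q c₀ hc₀ hq₀, comp_abel hdimF hξ₀ hψ₀ hL hLj x hcL] at h
    rw [← h]
    congr 1
  refine ⟨hc', ?_⟩
  refine Eq.trans ?_ (pc_id c).symm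
  rw [show classify hξ' _ hc' = v ≫ e.hom from hv]
  refine Eq.trans ?_ hvc
  rw [fm_left, Over.comp_left,
    ← PicGrp.pullHom_cls e.hom.left (M2.pullMul _) _ (PicLoc.isInvertible_pullback _ hΘi),
    ← PicGrp.pullHom_cls (pullback.fst J'.hom β) (M2.pullMul _) _ hΘi]
  exact ((pc_comp _ _ rfl _).trans (pc_comp _ _ rfl _)).symm

end Groth.Agent.JacDeg22
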