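import Groth.Agent.Lib.JacDeg22.Translate
import Groth.Agent.Lib.JacPts22.CurveJacobian
import Groth.Agent.Lib.FinAffine12.Proj
import Groth.Agent.S10958

/-!
# The degree `d` Picard scheme over an extension carrying a base point
-/

set_option autoImplicit false
set_option linter.style.haveILetI false
set_option linter.unusedSectionVars false
set_option backward.isDefEq.respectTransparency false
set_option backward.isDefEq.respectTransparency.types false
set_option maxHeartbeats 2000000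
set_option synthInstance.maxHeartbeats 200000

universe u

open CategoryTheory CategoryTheory.Limits AlgebraicGeometry Opposite MonoidalCategory CartesianMonoidalCategory MonObj

noncomputable section

namespace Groth.Agent.JacDeg22

open Groth.Agent.JacBC22 (fK CK)

noncomputable local instance instLawForm (Y : Scheme.{u}) : PicGrp.Law Y := M2.law Y

theorem exists_haff {F : Type u} [Field F] (J : Over (Spec (CommRingCat.of F))) [GrpObj J] [IsProper J.hom]
    [Smooth J.hom] [GeometricallyIrreducible J.hom] :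
    ∀ E : Set J.left, E.Finite → ∃ U : J.left.Opens, IsAffineOpen U ∧ E ⊆ U := by
  haveI : IrreducibleSpace J.left := GeometricallyIrreducible.irreducibleSpace_of_subsingleton J.hom
  obtain ⟨n, i, hi, -⟩ := S10958.result F J
  haveI := hi
  exact fun E hE => FinAffine12.exists_affineOpen_of_finite_proj (CohB1.polyGrading n F) i E hE

variable {k : Type u} [Field k] {F : Type u} [Field F]
  (β : Spec (CommRingCat.of F) ⟶ Spec (CommRingCat.of k))
  {X : Scheme.{u}} [X.Over (Spec (CommRingCat.of k))]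
  [IsProper (X ↘ Spec (CommRingCat.of k))] [Smooth (X ↘ Spec (CommRingCat.of k))]
  [GeometricallyConnected (X ↘ Spec (CommRingCat.of k))] [IsIntegral X]
  [GeometricallyIrreducible (X ↘ Spec (CommRingCat.of k))] (hdim : topologicalKrullDim X = 1)
  [IsFinite β] [Etale β]
  [IsProper (CK β X ↘ Spec (CommRingCat.of F))] [Smooth (CK β X ↘ Spec (CommRingCat.of F))]
  [GeometricallyConnected (CK β X ↘ Spec (CommRingCat.of F))] [IsIntegral (CK β X)]
  [GeometricallyIrreducible (CK β X ↘ Spec (CommRingCat.of F))] (hdimF : topologicalKrullDim (CK β X) = 1)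
  (σF : Spec (CommRingCat.of F) ⟶ CK β X) (hσF : σF ≫ (CK β X ↘ Spec (CommRingCat.of F)) = 𝟙 _)

include hdim hdimF hσF in
theorem exists_form {d : ℤ} {Jk : Over (Spec (CommRingCat.of k))}
    {ψ' : (ModFun.PicDeg (X ↘ Spec (CommRingCat.of k)) d).Hom ⊤ Jk}
    (hJ' : ModFun.IsBestApprox ⊤ (ModFun.PicDeg (X ↘ Spec (CommRingCat.of k)) d) Jk ψ')
    {Θ' : Jk.left.Modules} (hΘ' : Jac.IsThetaLB (X ↘ Spec (CommRingCat.of k)) d ψ' (Coh.structureModule X) Θ') :
    ∃ (J₀ : Over (Spec (CommRingCat.of F))) (_ : GrpObj J₀) (_ : IsCommMonObj J₀)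
      (ψ₀ : (ModFun.PicDeg (CK β X ↘ Spec (CommRingCat.of F)) 0).Hom ⊤ J₀)
      (_ : Jac.IsJacobian (CK β X ↘ Spec (CommRingCat.of F)) ⊤ J₀ ψ₀) (_ : IsProper J₀.hom) (N : (CK β X).Modules)
      (_ : PicF.IsInvertible N) (e : J₀ ≅ Red.bc β Jk), Curv2.deg F (CK β X) N 1 = d ∧
        Jac.IsThetaLB (CK β X ↘ Spec (CommRingCat.of F)) 0 ψ₀ N
          ((Scheme.Modules.pullback e.hom.left).obj ((Scheme.Modules.pullback (pullback.fst Jk.hom β)).obj Θ')) := by
  let f := X ↘ Spec (CommRingCat.of k)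
  let pF := CK β X ↘ Spec (CommRingCat.of F)
  haveI : IsProper (fK β f) := ‹IsProper (CK β X ↘ Spec (CommRingCat.of F))›
  haveI : Smooth (fK β f) := ‹Smooth (CK β X ↘ Spec (CommRingCat.of F))›
  haveI : GeometricallyConnected (fK β f) := ‹GeometricallyConnected (CK β X ↘ Spec (CommRingCat.of F))›
  haveI : GeometricallyIrreducible (fK β f) := ‹GeometricallyIrreducible (CK β X ↘ Spec (CommRingCat.of F))›
  obtain ⟨J₀, iG, iC, ψ₀, j₀, hJ₀, -⟩ := JacPts22.exists_jacobian_pair (C := CK β X) (σ := σF) hdimF hσF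
  letI := iG
  haveI := iC
  obtain ⟨hp₀, hs₀, hi₀, ξ₀, hξ₀, hψ₀⟩ := JacPts22.exists_fine pF hdimF σF hσF J₀ ψ₀ hJ₀.coarse.2.1
  haveI := hp₀; haveI := hs₀; haveI := hi₀
  have haff := exists_haff J₀
  have hξd := isUnivClass_shift hdimF σF hσF d hξ₀
  obtain ⟨ξF, hξF, hfm⟩ := exists_univ_bc β f hdim hdimF ψ' hξd hJ' haff
  let ψF : (ModFun.PicDeg pF d).Hom ⊤ (Red.bc β Jk) :=
    { app := fun T x _ hx => PicRep20.classify hξF (PicRep20.famCls pF d hx) (PicRep20.degCl_famCls pF hdimF d hx)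
      natural := by
        intro T T' t x _ _ hx hx'
        have h := PicRep20.famCls_pull t hx hx'
        have hd' : ∀ r, PicTan20.degCl pF T' r (Abel10.pc (PicF.XTmap pF t) (PicRep20.famCls pF d hx)).1 = d :=
          h ▸ PicRep20.degCl_famCls pF hdimF d hx'
        rw [← PicRep20.classify_pc hξF t _ (PicRep20.degCl_famCls pF hdimF d hx) hd']
        congr 1
      resp := by
        intro T x y _ hx hy hr
        obtain ⟨m, hm⟩ := PicRep20.classify_spec hξF _ (PicRep20.degCl_famCls pF hdimF d hx)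
        obtain ⟨m', hm'⟩ := (PicRep20.r_iff pF d ((M2.isInvertible_iff_isFinLocFreeOfRank_one x).2 hx.1.2)
          ((M2.isInvertible_iff_isFinLocFreeOfRank_one y).2 hy.1.2)).1 hr
        refine PicRep20.eq_classify hξF _ _ _ (m := m * m') ?_
        change PicRep20.famCls pF d hy = PicRep20.famCls pF d hx * Abel10.pc (PicF.XTproj pF T) m' at hm'
        rw [hm', map_mul, ← _root_.mul_assoc, ← hm]
        rfl }
  have hψF : ∀ T x (hx : (ModFun.PicDeg pF d).ok T x), ∃ hd, fm β (ψF.app T x trivial hx) =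
      Psi f hdim ψ' (JacBC22.down β f T (PicRep20.famCls _ d hx)) hd := fun T x hx =>
    ⟨deg_down β f hdim hdimF _ (PicRep20.degCl_famCls pF hdimF d hx), hfm T (PicRep20.famCls pF d hx) (PicRep20.degCl_famCls pF hdimF d hx)⟩
  have hΘF := isThetaLB_bc β hdim hdimF (PicLoc.isInvertible_structureModule X) hψF hΘ'
  let OF := JacForm22.Next β (Coh.structureModule X)
  have hjump : Jac.jumpLocus pF d ψF OF = Jac.jumpLocus pF d ψF (Coh.structureModule (CK β X)) :=
    JacDeg22.jumpLocus_congr pF d ψF (Twist.pullbackUnitIso (pullback.fst f β))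
  replace hΘF : Jac.IsThetaLB pF d ψF (Coh.structureModule (CK β X)) ((Scheme.Modules.pullback (pullback.fst Jk.hom β)).obj Θ') := by
    have h : (⟨Jac.thetaLocus pF d ψF (Coh.structureModule (CK β X)), isClosed_closure⟩ : TopologicalSpace.Closeds (Red.bc β Jk).left) =
        ⟨Jac.thetaLocus pF d ψF OF, isClosed_closure⟩ := TopologicalSpace.Closeds.ext (congrArg closure hjump.symm)
    refine ⟨hΘF.1, ?_⟩
    rw [h]
    exact hΘF.2
  obtain ⟨N, hN, hNc⟩ := PicGrp.exists_eq_cls (degGen hdimF σF hσF d)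
  obtain ⟨e, hΘ₀⟩ := exists_translate hdimF σF hσF d hξ₀ hψ₀ hξF (fun T x hx => rfl) hΘF hN hNc.symm
  refine ⟨J₀, iG, iC, ψ₀, hJ₀, hp₀, N, hN, e, ?_, hΘ₀⟩
  let t₀ : (JacPts22.T₀ F).left := IsLocalRing.closedPoint F
  rw [← JacBC22.degCl_fst (C := CK β X) hdimF hN t₀]
  have h := degCl_degGen hdimF σF hσF d (JacPts22.T₀ F) t₀
  rw [hNc] at h
  exact h

end Groth.Agent.JacDeg22
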