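import Groth.Agent.Lib.JacDeg22.ThetaPull
import Groth.Agent.Lib.Riemann22.PrincipalInv
import Groth.Agent.Lib.CurveCoh17.GenusBC
import Groth.Agent.Lib.CIProj14.Van
import Groth.Agent.Lib.JacForm22.Descend

/-!
# Numerical invariants of the theta divisor
-/

set_option autoImplicit false
set_option linter.style.haveILetI false
set_option linter.unusedSectionVars false
set_option backward.isDefEq.respectTransparency false
set_option backward.isDefEq.respectTransparency.types false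
set_option maxHeartbeats 2000000
set_option synthInstance.maxHeartbeats 200000

universe u

open CategoryTheory CategoryTheory.Limits AlgebraicGeometry TopologicalSpace Opposite MonoidalCategory
  CartesianMonoidalCategory MonObj
open scoped CategoryTheory.Obj

noncomputable section

namespace Groth.Agent.JacDeg22

open Groth.Agent.Abel10 (pc pc_comp pc_id)
open Groth.Agent.PicRep20 Groth.Agent.JacPts22 Groth.Agent.Riemann22

noncomputable local instance instLawInvariants (Y : Scheme.{u}) : PicGrp.Law Y := M2.law Y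

variable {k : Type u} [Field k]

theorem finrank_pullback_iso {X Y : Scheme.{u}} [X.Over (Spec (CommRingCat.of k))] [Y.Over (Spec (CommRingCat.of k))]
    (f : X ⟶ Y) [IsIso f] (hf : f ≫ (Y ↘ Spec (CommRingCat.of k)) = X ↘ Spec (CommRingCat.of k))
    {M : Y.Modules} (hM : PicF.IsInvertible M) (n : ℕ) :
    Module.finrank k (Coh.HH X ((Scheme.Modules.pullback f).obj M) n) = Module.finrank k (Coh.HH Y M n) := by
  have hq := Twist.isQCoh_of_isInvertible (PicLoc.isInvertible_pullback f hM)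
  obtain ⟨e⟩ := AmpleFin18.nonempty_HH_push f hf _ hq n
  haveI := CIProj14.isIso_unit_of_isIso f M (Twist.isQCoh_of_isInvertible hM)
  exact e.finrank_eq.symm.trans
    (CurveCoh17.hequiv k (asIso ((Scheme.Modules.pullbackPushforwardAdjunction f).unit.app M)) n).finrank_eq.symm

theorem finrank_ext {X : Scheme.{u}} [X.Over (Spec (CommRingCat.of k))] [CompactSpace X] [QuasiSeparatedSpace X]
    {K : Type u} [Field K] [Algebra k K] {Y : Scheme.{u}} [Y.Over (Spec (CommRingCat.of K))] {g : Y ⟶ X}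
    (hpb : IsPullback g (Y ↘ Spec (CommRingCat.of K)) (X ↘ Spec (CommRingCat.of k))
      (Spec.map (CommRingCat.ofHom (algebraMap k K))))
    {M : X.Modules} (hM : PicF.IsInvertible M) (n : ℕ) :
    Module.finrank K (Coh.HH Y ((Scheme.Modules.pullback g).obj M) n) = Module.finrank k (Coh.HH X M n) := by
  letI : (Curv2.bc k X K).Over (Spec (CommRingCat.of K)) := ⟨Curv2.bcSnd k X K⟩
  let e : Y ≅ Curv2.bc k X K := hpb.isoPullback
  have hM' : PicF.IsInvertible ((Scheme.Modules.pullback (Curv2.bcFst k X K)).obj M) := PicLoc.isInvertible_pullback _ hM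
  obtain ⟨r⟩ := CohBC18.nonempty_HH_bc (k := k) X K M (Twist.isQCoh_of_isInvertible hM) n
  let i : (Scheme.Modules.pullback g).obj M ≅
      (Scheme.Modules.pullback e.hom).obj ((Scheme.Modules.pullback (Curv2.bcFst k X K)).obj M) :=
    ((Scheme.Modules.pullbackComp e.hom (Curv2.bcFst k X K)).app M ≪≫
      (Scheme.Modules.pullbackCongr hpb.isoPullback_hom_fst).app M).symm
  exact (CurveCoh17.hequiv K i n).finrank_eq.trans
    ((finrank_pullback_iso (k := K) e.hom hpb.isoPullback_hom_snd hM' n).trans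
      (r.finrank_eq.symm.trans Module.finrank_baseChange))

theorem intNum_of_euler {X : Scheme.{u}} [X.Over (Spec (CommRingCat.of k))] [IsProper (X ↘ Spec (CommRingCat.of k))]
    [IsNoetherian X] {g : ℕ} (hdimX : topologicalKrullDim X = (g : WithBot ℕ∞)) {M : X.Modules} (hM : PicF.IsInvertible M)
    (h : ∀ m : ℕ, 1 ≤ m → Curv2.euler k X (CohB1.tensorPow M m) = (-1) ^ g * (m : ℤ) ^ g) :
    FGA.intNum k X g (fun _ : Fin g => M) (Coh.structureModule X) = (Nat.factorial g : ℤ) := by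
  obtain ⟨Q, hQd, hQ, -⟩ := NumPoly18.exists_poly_self k hdimX hM
  have hQe : Q = Polynomial.C ((-1 : ℚ) ^ g) * Polynomial.X ^ g := by
    refine RR22.poly_ext 1 fun m hm => ?_
    rw [← hQ m, h m hm, Polynomial.eval_mul, Polynomial.eval_C, Polynomial.eval_pow, Polynomial.eval_X]
    push_cast
    rfl
  have h : ((FGA.intNum k X g (fun _ : Fin g => M) (Coh.structureModule X) : ℤ) : ℚ) =
      (-1) ^ g * g.factorial * Q.coeff g := by
    rw [Snapper.intNum_eq_alt hdimX.le (fun _ => hM) (M1.isCoh_structureModule _)]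
    refine AVTrace22.alt_eq_coeff _ Q hQd fun m => ?_
    obtain ⟨hl, he⟩ := AVTrace22.cls_multiTwist (fun _ : Fin g => M) (fun _ => hM) m
    rw [Finset.prod_pow_eq_pow_sum] at he
    obtain ⟨i⟩ := (PicGrp.cls_eq_cls_iff hl (M2.isInvertible_tensorPow hM (∑ i, m i))).1
      (he.trans (Subtype.ext (by rw [PicGrp.cls_pow_val, PicGrp.cls_val])))
    rw [← hQ, Snapper.chi, CurveCoh17.euler_iso (M2.tensorLUnit _ ≪≫ i)]
  rw [hQe, Polynomial.coeff_C_mul, Polynomial.coeff_X_pow, if_pos rfl, _root_.mul_one,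
    mul_right_comm, ← mul_pow] at h
  norm_num at h
  exact_mod_cast h

variable {C : Scheme.{u}} [C.Over (Spec (CommRingCat.of k))]
  [IsProper (C ↘ Spec (CommRingCat.of k))] [Smooth (C ↘ Spec (CommRingCat.of k))]
  [GeometricallyConnected (C ↘ Spec (CommRingCat.of k))]

theorem theta_numbers (hdim : topologicalKrullDim C = 1) {n : ℕ} (hn : Curv2.genus k C = n + 1)
    (σ : Spec (CommRingCat.of k) ⟶ C) (hσ : σ ≫ (C ↘ Spec (CommRingCat.of k)) = 𝟙 _)
    {J : Over (Spec (CommRingCat.of k))} [GrpObj J] [IsCommMonObj J]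
    {ψ : (ModFun.PicDeg (C ↘ Spec (CommRingCat.of k)) 0).Hom ⊤ J}
    (hJ : Jac.IsJacobian (C ↘ Spec (CommRingCat.of k)) ⊤ J ψ)
    {N : C.Modules} (hN : PicF.IsInvertible N) (hNdeg : Curv2.deg k C N 1 = n)
    {ΘJ : J.left.Modules} (hΘJ : Jac.IsThetaLB (C ↘ Spec (CommRingCat.of k)) 0 ψ N ΘJ) :
    letI : J.left.Over (Spec (CommRingCat.of k)) := ⟨J.hom⟩
    topologicalKrullDim J.left = ((n + 1 : ℕ) : WithBot ℕ∞) ∧ Module.finrank k (Coh.HH J.left ΘJ 0) = 1 ∧
      ∀ (M : J.left.Modules), PicF.IsInvertible M → ClSub.IsInverseOf M ΘJ → ∀ m : ℕ, 1 ≤ m →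
        Curv2.euler k J.left (CohB1.tensorPow M m) = (-1) ^ (n + 1) * (m : ℤ) ^ (n + 1) := by
  classical
  letI : J.left.Over (Spec (CommRingCat.of k)) := ⟨J.hom⟩
  haveI : IsIntegral C := VB17.isIntegral_of_smooth (k := k) (X := C)
  haveI : GeometricallyIntegral (C ↘ Spec (CommRingCat.of k)) := PicSep22.geometricallyIntegral_of_smooth _
  haveI : GeometricallyIrreducible (C ↘ Spec (CommRingCat.of k)) := inferInstance
  obtain ⟨hJp, hJs, hJg⟩ := jacobian_props hdim σ hσ hJ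
  haveI := hJp; haveI := hJs; haveI := hJg
  let K := AlgebraicClosure k
  let γb := JacBC22.βa k
  obtain ⟨i1, i2, i3, i4, i5, hdimK, hgK⟩ := JacBC22.setup γb hdim
  haveI := i1; haveI := i2; haveI := i3; haveI := i4; haveI := i5
  obtain ⟨-, -, -, ξ, hξ, hψ⟩ := exists_fine _ hdim σ hσ J ψ hJ.coarse.2.1
  obtain ⟨ψK, hJK, hψK⟩ := JacBC22.exists_jacobian_bc γb hdim hdimK hξ hψ hJ
  obtain ⟨L, hL, hok⟩ := exists_ajFamily (σ := σ) hdim hσ
  let j : Over.mk (C ↘ Spec (CommRingCat.of k)) ⟶ J := ψ.app _ L trivial hok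
  have hj : Jac.IsAbelJacobiAt (C ↘ Spec (CommRingCat.of k)) σ ψ j := ⟨trivial, L, hok, hL, rfl⟩
  obtain ⟨σK, hσK, jK, hfst, hjK, hflj⟩ := JacBC22.exists_abel_bc γb hdim hdimK hξ hψ hψK hJK hσ hj
  have hnK := hgK.trans hn
  obtain ⟨hcl, hE, t, ht, hΘc⟩ := theta_pull hdim hJ hσ hj hdimK hJK hσK hjK hflj hn hnK hN hNdeg hΘJ
  haveI := ht
  let JK := Red.bc γb J
  let πK : JK.left ⟶ J.left := pullback.fst J.hom γb
  letI : JK.left.Over (Spec (CommRingCat.of K)) := ⟨JK.hom⟩
  haveI : CompactSpace J.left := QuasiCompact.compactSpace_of_compactSpace J.hom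
  haveI : QuasiSeparatedSpace J.left := quasiSeparatedSpace_of_quasiSeparated J.hom
  have hpb : IsPullback πK (JK.left ↘ Spec (CommRingCat.of K)) (J.left ↘ Spec (CommRingCat.of k))
      (Spec.map (CommRingCat.ofHom (algebraMap k K))) := IsPullback.of_hasPullback _ _
  obtain ⟨hKp, hKs, hKg⟩ := jacobian_props hdimK σK hσK hJK
  haveI := hKp; haveI := hKs; haveI := hKg
  haveI : IsIntegral JK.left := GeometricallyIntegral.isIntegral_of_subsingleton JK.hom
  set c₀ := PicGrp.cls _ (M2.isInvertible_idealMod _ hE) with hc₀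
  obtain ⟨L₀, hL₀, hL₀c⟩ := PicGrp.exists_eq_cls c₀⁻¹
  -- a translate is a theta bundle over the closure
  obtain ⟨NK, hNKi, hNKd⟩ : ∃ NK : (JacBC22.CK γb C).Modules, PicF.IsInvertible NK ∧
      Curv2.deg K (JacBC22.CK γb C) NK 1 = n :=
    ⟨_, PicLoc.isInvertible_pullback (pullback.fst (C ↘ Spec (CommRingCat.of k)) γb) hN,
      (JacForm22.deg_ext γb hN).trans hNdeg⟩
  obtain ⟨a, ha⟩ := thetaLocus_eq hdimK hJK hσK jK hjK hnK hNKi hNKd
  let s := Jac.transl JK a
  haveI : IsIso s.left := Riemann22.isIso_transl a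
  have hs : s.left ≫ JK.hom = JK.hom := Over.w s
  have ht' : t.left ≫ JK.hom = JK.hom := Over.w t
  have hΘs : Jac.IsThetaLB (JacBC22.CK γb C ↘ Spec (CommRingCat.of K)) 0 ψK NK ((Scheme.Modules.pullback s.left).obj L₀) := by
    refine ⟨PicLoc.isInvertible_pullback s.left hL₀, ?_⟩
    have hE' := BlowUp26.isEffCartierIdeal_comap_flat hE s.left
    have hl : (Scheme.IdealSheafData.vanishingIdeal ⟨_, hcl⟩).comap s.left = Scheme.IdealSheafData.vanishingIdeal
        ⟨Jac.thetaLocus (JacBC22.CK γb C ↘ Spec (CommRingCat.of K)) 0 ψK NK, isClosed_closure⟩ :=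
      (NodeBlow14.comap_vanishingIdeal s.left _).trans (congrArg _ (Closeds.ext ha.symm))
    show ClSub.IsInverseOf _ (ClSub.idealMod _)
    rw [← hl]
    refine (PicGrp.cls_mul_cls_eq_one_iff (PicLoc.isInvertible_pullback s.left hL₀) (M2.isInvertible_idealMod _ hE')).1 ?_
    rw [← PicGrp.pullHom_cls s.left (M2.pullMul s.left) L₀ hL₀]
    show pc s.left _ * _ = 1
    rw [← Riemann22.cls_comap s.left hE hE', ← map_mul, ← hL₀c, inv_mul_cancel, map_one]
  have hΘi : Nonempty ((Scheme.Modules.pullback πK).obj ΘJ ≅ (Scheme.Modules.pullback t.left).obj L₀) := by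
    refine (PicGrp.cls_eq_cls_iff (PicLoc.isInvertible_pullback _ hΘJ.1) (PicLoc.isInvertible_pullback _ hL₀)).1 ?_
    rw [← PicGrp.pullHom_cls t.left (M2.pullMul _) L₀ hL₀, ← hL₀c, map_inv]
    exact (PicGrp.pullHom_cls _ _ _ _).symm.trans hΘc
  obtain ⟨iΘ⟩ := hΘi
  refine ⟨by rw [dim_jacobian hdim σ hσ hJ, hn], ?_, fun M hM hMΘ m hm => ?_⟩
  · rw [← finrank_ext hpb hΘJ.1 0, (CurveCoh17.hequiv K iΘ 0).finrank_eq, finrank_pullback_iso (k := K) t.left ht' hL₀ 0]
    exact finrank_theta_eq_one hdimK hσK hJK jK hjK hnK hcl hE hL₀ hL₀c.symm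
  obtain ⟨M₀, hM₀, hM₀c⟩ := PicGrp.exists_eq_cls c₀
  have hMs : ClSub.IsInverseOf ((Scheme.Modules.pullback s.left).obj M₀) ((Scheme.Modules.pullback s.left).obj L₀) := by
    refine (PicGrp.cls_mul_cls_eq_one_iff (PicLoc.isInvertible_pullback _ hM₀) (PicLoc.isInvertible_pullback _ hL₀)).1 ?_
    rw [← PicGrp.pullHom_cls s.left (M2.pullMul _) M₀ hM₀, ← PicGrp.pullHom_cls s.left (M2.pullMul _) L₀ hL₀, ← map_mul,
      ← hM₀c, ← hL₀c, mul_inv_cancel, map_one]
  have hK := (theta_inv_pow hdimK (n + 1) hnK (Nat.succ_pos n) hJK NK hNKi (by rw [hNKd]; push_cast; ring) _ hΘs _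
    (PicLoc.isInvertible_pullback s.left hM₀) hMs m hm).2
  refine Eq.trans ?_ hK
  have hMm := M2.isInvertible_tensorPow hM m
  have hM₀m := M2.isInvertible_tensorPow hM₀ m
  have hpow : ∀ {A B : Scheme.{u}} (q : A ⟶ B) {P : B.Modules} (hP : PicF.IsInvertible P),
      pc q (PicGrp.cls _ (M2.isInvertible_tensorPow hP m)) = pc q (PicGrp.cls P hP) ^ m := fun q P hP => by
    rw [← map_pow]
    exact congrArg _ (Subtype.ext (by rw [PicGrp.cls_pow_val, PicGrp.cls_val]))
  have hM' : pc (Y' := JK.left) πK (PicGrp.cls M hM) = pc t.left (PicGrp.cls M₀ hM₀) := by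
    have e : PicGrp.cls M hM = (PicGrp.cls ΘJ hΘJ.1)⁻¹ :=
      eq_inv_of_mul_eq_one_left ((PicGrp.cls_mul_cls_eq_one_iff hM hΘJ.1).2 hMΘ)
    rw [e, map_inv, hΘc, inv_inv, ← hM₀c]
  have h1 : Nonempty ((Scheme.Modules.pullback πK).obj (CohB1.tensorPow M m) ≅
      (Scheme.Modules.pullback t.left).obj (CohB1.tensorPow M₀ m)) := by
    refine (PicGrp.cls_eq_cls_iff (PicLoc.isInvertible_pullback _ hMm) (PicLoc.isInvertible_pullback _ hM₀m)).1 ?_
    rw [← PicGrp.pullHom_cls t.left (M2.pullMul _) _ hM₀m, ← PicGrp.pullHom_cls πK (M2.pullMul _) _ hMm]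
    show pc (Y' := JK.left) πK _ = pc t.left _
    rw [hpow πK hM, hpow t.left hM₀, hM']
  have h2 : Nonempty ((Scheme.Modules.pullback s.left).obj (CohB1.tensorPow M₀ m) ≅
      CohB1.tensorPow ((Scheme.Modules.pullback s.left).obj M₀) m) := by
    refine (PicGrp.cls_eq_cls_iff (PicLoc.isInvertible_pullback _ hM₀m)
      (M2.isInvertible_tensorPow (PicLoc.isInvertible_pullback _ hM₀) m)).1 ?_
    rw [← PicGrp.pullHom_cls s.left (M2.pullMul _) _ hM₀m]
    show pc s.left _ = _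
    rw [hpow s.left hM₀]
    refine (congrArg (· ^ m) (PicGrp.pullHom_cls s.left (M2.pullMul _) M₀ hM₀)).trans ?_
    exact Subtype.ext (by rw [PicGrp.cls_pow_val, PicGrp.cls_val])
  obtain ⟨i1'⟩ := h1
  obtain ⟨i2'⟩ := h2
  refine finsum_congr fun q => ?_
  rw [← finrank_ext hpb hMm q, (CurveCoh17.hequiv K i1' q).finrank_eq, finrank_pullback_iso (k := K) t.left ht' hM₀m q,
    ← finrank_pullback_iso (k := K) s.left hs hM₀m q, (CurveCoh17.hequiv K i2' q).finrank_eq]

end Groth.Agent.JacDeg22
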