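import Groth.Agent.Lib.JacDeg22.Anchor
import Groth.Agent.Lib.JacDeg22.Slice
import Groth.Agent.Lib.JacDeg22.Iso
import Groth.Agent.Lib.PtsDetect19.Basic

/-!
# The pull back of theta along subtraction of a point, at geometric points
-/

set_option autoImplicit false
set_option linter.style.haveILetI false
set_option linter.unusedSectionVars false
set_option backward.isDefEq.respectTransparency false
set_option backward.isDefEq.respectTransparency.types false
set_option maxHeartbeats 2000000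
set_option synthInstance.maxHeartbeats 200000

universe u

open CategoryTheory CategoryTheory.Limits AlgebraicGeometry Opposite MonoidalCategory CartesianMonoidalCategory MonObj
open scoped CategoryTheory.Obj

noncomputable section

namespace Groth.Agent.JacDeg22

open Groth.Agent.Abel10 (pc pc_comp pc_id)
open Groth.Agent.PicRep20 Groth.Agent.JacPts22 Groth.Agent.JacBC22 Groth.Agent.Riemann22

noncomputable local instance instLawPoint (Y : Scheme.{u}) : PicGrp.Law Y := M2.law Y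

theorem slice_aux {G : Type*} [CommGroup G] (x a l p : G) : x * a⁻¹ * l * (a * p) = x * (l * p) := by
  rw [mul_right_comm x, _root_.mul_assoc (x * l), inv_mul_cancel_left, _root_.mul_assoc]

section Inv

variable {k : Type u} [Field k] {C : Scheme.{u}} [C.Over (Spec (CommRingCat.of k))]
  [IsProper (C ↘ Spec (CommRingCat.of k))] [Smooth (C ↘ Spec (CommRingCat.of k))]
  [GeometricallyConnected (C ↘ Spec (CommRingCat.of k))] [IsIntegral C]
  [GeometricallyIrreducible (C ↘ Spec (CommRingCat.of k))] (hdim : topologicalKrullDim C = 1)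
  {J : Over (Spec (CommRingCat.of k))} [GrpObj J] [IsCommMonObj J]
  {ψ : (ModFun.PicDeg (C ↘ Spec (CommRingCat.of k)) 0).Hom ⊤ J}
  {ξ : PicLoc.PicSet (PicF.XT (C ↘ Spec (CommRingCat.of k)) J)}
  (hξ : IsUnivClass (C ↘ Spec (CommRingCat.of k)) 0 J ξ)
  (hψ : ∀ (T : Over (Spec (CommRingCat.of k))) (x : (ModFun.PicDeg (C ↘ Spec (CommRingCat.of k)) 0).Fam T)
    (hx : (ModFun.PicDeg (C ↘ Spec (CommRingCat.of k)) 0).ok T x),
    ψ.app T x trivial hx = classify hξ (famCls _ 0 hx) (degCl_famCls _ hdim 0 hx))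
  (hJ : Jac.IsJacobian (C ↘ Spec (CommRingCat.of k)) ⊤ J ψ)

include hdim hψ hJ in
theorem classify_inv {T : Over (Spec (CommRingCat.of k))} (a : PicLoc.PicSet (PicF.XT (C ↘ Spec (CommRingCat.of k)) T))
    (ha : ∀ t, PicTan20.degCl _ T t a.1 = 0) (ha' : ∀ t, PicTan20.degCl _ T t a⁻¹.1 = 0) :
    classify hξ a⁻¹ ha' = (classify hξ a ha)⁻¹ := by
  refine eq_inv_of_mul_eq_one_left ?_
  rw [← classify_mul hdim hξ hψ hJ _ _ ha' ha (deg_mul₀ hdim ha' ha),
    classify_congr hξ (inv_mul_cancel a) _ (deg_one₀ hdim), classify_one hdim hξ hψ hJ]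

end Inv

variable {k : Type u} [Field k] {F : Type u} [Field F]
  (β : Spec (CommRingCat.of F) ⟶ Spec (CommRingCat.of k))
  {X : Scheme.{u}} [X.Over (Spec (CommRingCat.of k))]
  [IsProper (X ↘ Spec (CommRingCat.of k))] [Smooth (X ↘ Spec (CommRingCat.of k))]
  [GeometricallyConnected (X ↘ Spec (CommRingCat.of k))] [IsIntegral X]
  [GeometricallyIrreducible (X ↘ Spec (CommRingCat.of k))] (hdim : topologicalKrullDim X = 1)
  [IsFinite β] [Etale β]
  [IsProper (CK β X ↘ Spec (CommRingCat.of F))] [Smooth (CK β X ↘ Spec (CommRingCat.of F))]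
  [GeometricallyConnected (CK β X ↘ Spec (CommRingCat.of F))] [IsIntegral (CK β X)]
  [GeometricallyIrreducible (CK β X ↘ Spec (CommRingCat.of F))]
  [IsProper (fK β (X ↘ Spec (CommRingCat.of k)))] [Smooth (fK β (X ↘ Spec (CommRingCat.of k)))]
  [GeometricallyConnected (fK β (X ↘ Spec (CommRingCat.of k)))]
  [GeometricallyIrreducible (fK β (X ↘ Spec (CommRingCat.of k)))]
  (hdimF : topologicalKrullDim (CK β X) = 1)
  {σF : Spec (CommRingCat.of F) ⟶ CK β X} (hσF : σF ≫ (CK β X ↘ Spec (CommRingCat.of F)) = 𝟙 _)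
  {J₀ : Over (Spec (CommRingCat.of F))} [GrpObj J₀] [IsCommMonObj J₀]
  {ψ₀ : (ModFun.PicDeg (CK β X ↘ Spec (CommRingCat.of F)) 0).Hom ⊤ J₀}
  (hJ₀ : Jac.IsJacobian (CK β X ↘ Spec (CommRingCat.of F)) ⊤ J₀ ψ₀)
  {j₀ : Over.mk (CK β X ↘ Spec (CommRingCat.of F)) ⟶ J₀}
  (hj₀ : Jac.IsAbelJacobiAt (CK β X ↘ Spec (CommRingCat.of F)) σF ψ₀ j₀)
  {ξ₀ : PicLoc.PicSet (PicF.XT (CK β X ↘ Spec (CommRingCat.of F)) J₀)}
  (hξ₀ : IsUnivClass (CK β X ↘ Spec (CommRingCat.of F)) 0 J₀ ξ₀)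
  (hψ₀ : ∀ (T : Over (Spec (CommRingCat.of F))) (x : (ModFun.PicDeg (CK β X ↘ Spec (CommRingCat.of F)) 0).Fam T)
    (hx : (ModFun.PicDeg (CK β X ↘ Spec (CommRingCat.of F)) 0).ok T x),
    ψ₀.app T x trivial hx = classify hξ₀ (famCls _ 0 hx) (degCl_famCls _ hdimF 0 hx))
  {n : ℕ} {g d : ℤ} (hg : g = (n : ℤ) + 1) (hd : d = (n : ℤ))
  {Jg : Over (Spec (CommRingCat.of k))}
  {ψg : (ModFun.PicDeg (X ↘ Spec (CommRingCat.of k)) g).Hom ⊤ Jg}
  {ξg : PicLoc.PicSet (PicF.XT (fK β (X ↘ Spec (CommRingCat.of k))) (Red.bc β Jg))}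
  (hξg : IsUnivClass (fK β (X ↘ Spec (CommRingCat.of k))) g (Red.bc β Jg) ξg)
  (hfmg : ∀ (T : Over (Spec (CommRingCat.of F))) (c : PicLoc.PicSet (PicF.XT (fK β (X ↘ Spec (CommRingCat.of k))) T))
    (hc : ∀ t, PicTan20.degCl (fK β (X ↘ Spec (CommRingCat.of k))) T t c.1 = g),
    fm β (classify hξg c hc) = Psi (X ↘ Spec (CommRingCat.of k)) hdim ψg (down β (X ↘ Spec (CommRingCat.of k)) T c)
      (deg_down β (X ↘ Spec (CommRingCat.of k)) hdim hdimF c hc))
  {J' : Over (Spec (CommRingCat.of k))}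
  {ψ' : (ModFun.PicDeg (X ↘ Spec (CommRingCat.of k)) d).Hom ⊤ J'}
  {ξ' : PicLoc.PicSet (PicF.XT (fK β (X ↘ Spec (CommRingCat.of k))) (Red.bc β J'))}
  (hξ' : IsUnivClass (fK β (X ↘ Spec (CommRingCat.of k))) d (Red.bc β J') ξ')
  (hfm' : ∀ (T : Over (Spec (CommRingCat.of F))) (c : PicLoc.PicSet (PicF.XT (fK β (X ↘ Spec (CommRingCat.of k))) T))
    (hc : ∀ t, PicTan20.degCl (fK β (X ↘ Spec (CommRingCat.of k))) T t c.1 = d),
    fm β (classify hξ' c hc) = Psi (X ↘ Spec (CommRingCat.of k)) hdim ψ' (down β (X ↘ Spec (CommRingCat.of k)) T c)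
      (deg_down β (X ↘ Spec (CommRingCat.of k)) hdim hdimF c hc))
  (e : J₀ ≅ Red.bc β J')
  (he : ∀ (T : Over (Spec (CommRingCat.of F))) (c : PicLoc.PicSet (PicF.XT (CK β X ↘ Spec (CommRingCat.of F)) T)) (hc hc'),
    classify hξ' (c * cst T (degGen hdimF σF hσF d)) hc' = classify hξ₀ c hc ≫ e.hom)
  {Θ' : J'.left.Modules} (hΘi : PicF.IsInvertible Θ')
  {N : (CK β X).Modules} (hN : PicF.IsInvertible N) (hNc : PicGrp.cls N hN = degGen hdimF σF hσF d)
  (hΘ₀ : Jac.IsThetaLB (CK β X ↘ Spec (CommRingCat.of F)) 0 ψ₀ N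
    ((Scheme.Modules.pullback e.hom.left).obj ((Scheme.Modules.pullback (pullback.fst J'.hom β)).obj Θ')))
  (mu' : Over.mk (X ↘ Spec (CommRingCat.of k)) ⊗ Jg ⟶ J')
  (hmu' : Jac.IsBinOpMap
      (ModFun.Problem.Hom.ofNatTrans (𝟙 ((AlgSp.pyon (Spec (CommRingCat.of k))).obj (Over.mk (X ↘ Spec (CommRingCat.of k)))))) ψg ψ'
      (fun (T : Over (Spec (CommRingCat.of k))) (x : ULift.{u + 1} (T ⟶ Over.mk (X ↘ Spec (CommRingCat.of k))))
        (M N : (PicF.XT (X ↘ Spec (CommRingCat.of k)) T).Modules) =>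
        Nonempty (N ≅ CohB1.tensorMod M (ClSub.idealMod
          (pullback.lift x.down.left (𝟙 T.left) ((Over.w x.down).trans (Category.id_comp T.hom).symm) :
            T.left ⟶ PicF.XT (X ↘ Spec (CommRingCat.of k)) T).ker)))
      mu')

include hdim hdimF hσF hJ₀ hj₀ hψ₀ hg hd hfmg hfm' he hΘi hN hNc hΘ₀ hmu'

/-- The class of the slice of the pulled back theta bundle at a geometric point. -/
theorem slice (hgen : Curv2.genus F (CK β X) = n + 1) {K : Type u} [Field K] [IsAlgClosed K]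
    (t : Spec (CommRingCat.of K) ⟶ Spec (CommRingCat.of F)) (w : Over.mk t ⟶ Red.bc β Jg) :
    pc (PicF.XTmap (X ↘ Spec (CommRingCat.of k)) (fm β w) ≫ mu'.left) (PicGrp.cls Θ' hΘi) =
      down β (X ↘ Spec (CommRingCat.of k)) (Over.mk t)
        (pc (PicF.XTmap (fK β (X ↘ Spec (CommRingCat.of k))) w) ξg) := by
  classical
  let f := X ↘ Spec (CommRingCat.of k)
  let pF := CK β X ↘ Spec (CommRingCat.of F)
  obtain ⟨hJp, -, -⟩ := jacobian_props hdimF σF hσF hJ₀
  haveI := hJp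
  haveI : IsSeparated J₀.hom := AbRigid.isSeparated_of_grpObj J₀
  obtain ⟨h1, h2, h3, h4, h5, hdimK, hgK⟩ := setup (C := CK β X) t hdimF
  haveI := h1; haveI := h2; haveI := h3; haveI := h4; haveI := h5
  obtain ⟨ψK, hJK, hψK⟩ := exists_jacobian_bc t hdimF hdimK hξ₀ hψ₀ hJ₀
  obtain ⟨σK, hσK, jK, hfst, hjK, hflj⟩ := exists_abel_bc t hdimF hdimK hξ₀ hψ₀ hψK hJK hσF hj₀
  let pK := CK t (CK β X) ↘ Spec (CommRingCat.of K)
  let P0 := Abel10.ptCls hdimF σF hσF
  let c := pc (PicF.XTmap pF w) ξg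
  have hc : ∀ r, PicTan20.degCl pF (Over.mk t) r c.1 = g := fun r => (PicTan20.degCl_pull pF w r ξg.2).trans (hξg.1 _)
  let c₀ := c * (cst (X := CK β X) (Over.mk t) (degGen hdimF σF hσF g))⁻¹
  have hc₀ : ∀ r, PicTan20.degCl pF (Over.mk t) r c₀.1 = 0 := deg_unshift hdimF σF hσF g hc
  let w₀ := classify hξ₀ c₀ hc₀
  obtain ⟨a, ha⟩ := JacBC22.flPt_surjective t w₀
  have hia : iota hdimK (Red.bc t J₀) ψK hJK a = c₀ := by
    rw [iota_eq_pc t hdimF hdimK hξ₀ hψK hJK, ha]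
    obtain ⟨m, hm⟩ := classify_spec hξ₀ c₀ hc₀
    rw [show m = 1 by
      obtain ⟨M, hM, rfl⟩ := PicGrp.exists_eq_cls m
      exact (PicGrp.cls_eq_one_iff _).2 (CubeField.nonempty_trivial_field _ hM), map_one, _root_.mul_one] at hm
    exact hm.symm
  have hcN : cN hdimK σK hσK ψK hJK (n + 1) a = c := by
    rw [cN, hia, ← extCls_pt hdimF t hσF hj₀ σK hσK hfst]
    show c * (cst (X := CK β X) (Over.mk t) (degGen hdimF σF hσF g))⁻¹ * (cst (X := CK β X) (Over.mk t) P0 ^ (n + 1))⁻¹ = c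
    rw [degGen, map_zpow, zpow_neg, inv_inv, _root_.mul_assoc, ← zpow_natCast, hg]
    push_cast
    rw [mul_inv_cancel, _root_.mul_one]
  have hNdeg : Curv2.deg F (CK β X) N 1 = n := by
    rw [← JacBC22.degCl_fst (C := CK β X) hdimF hN (IsLocalRing.closedPoint F : (JacPts22.T₀ F).left)]
    have h := degCl_degGen hdimF σF hσF d (JacPts22.T₀ F) (IsLocalRing.closedPoint F)
    rw [← hNc] at h
    exact h.trans hd
  have hNc' : PicGrp.cls N hN * P0 ^ n = 1 := by
    rw [hNc, degGen, zpow_neg, hd, zpow_natCast, inv_mul_cancel]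
  have hA := theta_anchor hdimF hJ₀ hσF hj₀ t hdimK hJK hσK hjK hflj hgen (hgK.trans hgen) hN hNdeg hNc' hΘ₀ a
  rw [hcN] at hA
  -- the morphism from the curve over the larger field
  let TF : Over (Spec (CommRingCat.of F)) := Over.mk (PicF.XTproj pF (Over.mk t) ≫ t)
  let x : TF ⟶ Over.mk pF := Over.homMk (pullback.fst pF t) pullback.condition
  let q : TF ⟶ Over.mk t := Over.homMk (PicF.XTproj pF (Over.mk t)) rfl
  let v : TF ⟶ J₀ := (q ≫ w₀) * (x ≫ j₀)⁻¹
  let vK : Over.mk pK ⟶ Red.bc t J₀ := Over.homMk (pullback.lift v.left pK (Over.w v)) (pullback.lift_snd _ _ _)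
  have hvK : vK = hMap jK a := by
    haveI : IsSeparated (Red.bc t J₀).hom := inferInstanceAs (IsSeparated (pullback.snd J₀.hom t))
    haveI : LocallyOfFiniteType (Over.mk pK).hom := inferInstanceAs (LocallyOfFiniteType pK)
    haveI : GeometricallyReduced (Over.mk pK).hom := by
      haveI : GeometricallyIntegral pK := PicSep22.geometricallyIntegral_of_smooth pK
      exact (inferInstance : GeometricallyReduced pK)
    refine PtsDetect19.hom_ext_points K _ _ fun s => ?_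
    let z : 𝟙_ (Over (Spec (CommRingCat.of K))) ⟶ Over.mk pK := Over.homMk s.left (by simpa using Over.w s)
    suffices h : z ≫ vK = z ≫ hMap jK a by
      refine Over.OverMorphism.ext ?_
      exact (congrArg CommaMorphism.left h : z.left ≫ _ = z.left ≫ _)
    refine flPt_injective t ?_
    let y : Over.mk t ⟶ TF := Over.homMk z.left (by
      show z.left ≫ PicF.XTproj pF (Over.mk t) ≫ t = t
      rw [← Category.assoc]
      exact (congrArg (· ≫ t) (Over.w z)).trans (Category.id_comp t))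
    have hfl : ∀ (r : 𝟙_ (Over (Spec (CommRingCat.of K))) ⟶ Red.bc t J₀), (flPt t r).left = r.left ≫ pullback.fst J₀.hom t := by
      intro r
      simp [DiagGL.fl, Adjunction.homEquiv_counit]
    have e1 : flPt t (z ≫ vK) = y ≫ v := by
      refine Over.OverMorphism.ext ?_
      rw [hfl, Over.comp_left, Over.comp_left, Category.assoc]
      exact congrArg (z.left ≫ ·) (pullback.lift_fst _ _ _)
    have e2 : y ≫ q = 𝟙 _ := Over.OverMorphism.ext (Over.w z)
    have e3 : y ≫ x = flC t z := Over.OverMorphism.ext rfl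
    let Φ : (𝟙_ (Over (Spec (CommRingCat.of K))) ⟶ Red.bc t J₀) →* (Over.mk t ⟶ J₀) :=
      MonoidHom.mk' (flPt t) (flPt_mul t)
    rw [e1, MonObj.comp_mul, GrpObj.comp_inv, ← Category.assoc, ← Category.assoc, e2, Category.id_comp, e3, ← hflj z, ← ha,
      MonObj.comp_mul, GrpObj.comp_inv, ← Category.assoc, toUnit_unique (z ≫ toUnit _) (𝟙 _), Category.id_comp]
    show Φ a * (Φ (z ≫ jK))⁻¹ = Φ ((z ≫ jK)⁻¹ * a)
    rw [map_mul, map_inv, _root_.mul_comm]
  have hvc : pc (Y' := TF.left) v.left (PicGrp.cls _ hΘ₀.1) = c := by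
    refine Eq.trans ?_ hA
    rw [← hvK]
    exact (pc_comp _ _ (pullback.lift_fst _ _ _) _).symm
  -- the class of the difference
  obtain ⟨hP, L, hL, hAJ, hLj⟩ := hj₀
  haveI : SmoothOfRelativeDimension 1 pF := CurveCartier25.smoothOfRelativeDimension_one pF hdimF
  haveI : SmoothOfRelativeDimension 1 f := CurveCartier25.smoothOfRelativeDimension_one f hdim
  let cL := pc (PicF.XTmap pF x) (famCls pF 0 hL)
  have hcL : ∀ r, PicTan20.degCl pF TF r cL.1 = 0 := fun r =>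
    (PicTan20.degCl_pull pF x r (famCls pF 0 hL).2).trans (degCl_famCls pF hdimF 0 hL _)
  have hcL' : ∀ r, PicTan20.degCl pF TF r cL⁻¹.1 = 0 := fun r => by
    rw [degCl_inv _ hdimF, hcL, neg_zero]
  have hq₀ : ∀ r, PicTan20.degCl pF TF r (pc (PicF.XTmap pF q) c₀).1 = 0 := fun r =>
    (PicTan20.degCl_pull pF q r c₀.2).trans (hc₀ _)
  have hgr : grCls pF x = cL⁻¹ * cst (X := CK β X) TF P0 := by
    rw [grCls_eq, eq_inv_mul_iff_mul_eq, show cL = pc (PicF.XTmap pF x) (PicGrp.cls L hAJ.1) from rfl, ← map_mul,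
      AlgEquiv22.cls_tensor, ← cst_map x]
    congr 1
    exact ((PicGrp.cls_eq_cls_iff _ (PicLoc.isInvertible_pullback _ (Abel10.isInvertible_point hdimF σF hσF))).2 hAJ.2).trans
      (PicGrp.pullHom_cls _ _ _ _).symm
  let c' := pc (PicF.XTmap pF q) c * grCls pF x
  have hc'eq : c' = pc (PicF.XTmap pF q) c₀ * cL⁻¹ * cst (X := CK β X) TF (degGen hdimF σF hσF d) := by
    have h : degGen hdimF σF hσF g * P0 = degGen hdimF σF hσF d := by
      rw [degGen, degGen, hg, hd]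
      show P0 ^ _ * P0 = P0 ^ _
      rw [← zpow_add_one]
      congr 1
      ring
    rw [← h]
    show _ = pc (PicF.XTmap pF q) (c * (cst (X := CK β X) (Over.mk t) (degGen hdimF σF hσF g))⁻¹) * _ * _
    rw [map_mul (pc (PicF.XTmap pF q))]
    have ei : pc (PicF.XTmap pF q) ((cst (X := CK β X) (Over.mk t) (degGen hdimF σF hσF g))⁻¹) =
      (cst (X := CK β X) TF (degGen hdimF σF hσF g))⁻¹ := (map_inv _ _).trans (congrArg (·⁻¹) (cst_map q _))
    refine ((congrArg (pc (PicF.XTmap pF q) c * ·) hgr).trans (slice_aux _ (cst (X := CK β X) TF (degGen hdimF σF hσF g)) _ _).symm).trans ?_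
    exact congrArg₂ (· * ·) (congrArg (· * cL⁻¹) (congrArg (pc (PicF.XTmap pF q) c * ·) ei.symm)) (map_mul _ _ _).symm
  have hd₁ := deg_mul₀ hdimF hq₀ hcL'
  have hc' : ∀ r, PicTan20.degCl pF TF r c'.1 = d := hc'eq ▸ deg_shift hdimF σF hσF d hd₁
  have hv : classify hξ' c' hc' = v ≫ e.hom := by
    have h := he TF _ hd₁ (deg_shift hdimF σF hσF d hd₁)
    rw [classify_mul hdimF hξ₀ hψ₀ hJ₀ _ _ hq₀ hcL', classify_inv hdimF hξ₀ hψ₀ hJ₀ _ hcL hcL',
      classify_pc hξ₀ q c₀ hc₀ hq₀, comp_abel hdimF hξ₀ hψ₀ hL hLj x hcL] at h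
    rw [← h]
    congr 1
  -- read over the smaller field
  let T := (Over.map β).obj TF
  let xk : T ⟶ Over.mk f := Over.homMk (x.left ≫ pullback.fst f β) (by
    show (x.left ≫ pullback.fst f β) ≫ f = TF.hom ≫ β
    rw [Category.assoc, pullback.condition, ← Category.assoc]
    exact congrArg (· ≫ β) (Over.w x))
  have hcq : ∀ r, PicTan20.degCl pF TF r (pc (PicF.XTmap pF q) c).1 = g := fun r =>
    (PicTan20.degCl_pull pF q r c.2).trans (hc _)
  let cy := down β f TF (pc (PicF.XTmap pF q) c)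
  have hcy := deg_down β f hdim hdimF _ hcq
  let y := rep cy
  have hy := ok_rep f hdim cy hcy
  have hψy : ψg.app T y trivial hy = fm β (q ≫ w) := by
    have hdeg : ∀ r, PicTan20.degCl (fK β f) TF r (pc (PicF.XTmap (fK β f) (q ≫ w)) ξg).1 = g :=
      fun r => (PicTan20.degCl_pull (fK β f) (q ≫ w) r ξg.2).trans (hξg.1 _)
    rw [eq_classify hξg _ hdeg (q ≫ w) (m := 1) (by rw [map_one, _root_.mul_one]), hfmg]
    refine (psi_app f hdim ψg y hy cy hcy (cls_rep cy)).trans (psi_congr f hdim ψg ?_ _ _)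
    exact congrArg (down β f TF) (pc_map_map pF q w ξg)
  obtain ⟨Nf, hNf, hR⟩ := hmu'.1 T ⟨xk⟩ y trivial trivial hy
  have hind := hmu'.2 T (⟨xk⟩, y) Nf trivial ⟨trivial, hy⟩ hNf hR
  have hgrk : grCls f xk = down β f TF (grCls pF x) := by
    symm
    haveI : IsClosedImmersion (gr pF x) := by
      haveI : IsClosedImmersion (gr pF x ≫ PicF.XTproj pF TF) := by
        rw [show gr pF x ≫ PicF.XTproj pF TF = 𝟙 TF.left from pullback.lift_snd _ _ _]
        infer_instance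
      exact IsClosedImmersion.of_comp _ (PicF.XTproj pF TF)
    refine pc_ker _ _ _ (𝟙 TF.left) ?_ (isEff_gr f xk) (isEff_gr pF x)
    haveI : IsIso (𝟙 TF.left) := IsIso.id _
    refine IsPullback.of_vert_isIso ⟨?_⟩
    refine Eq.trans ?_ (Category.id_comp _).symm
    show gr f xk ≫ (AbDual22.bcIso β (Over.mk f) TF).inv = gr pF x
    rw [Iso.comp_inv_eq]
    apply pullback.hom_ext
    · exact (pullback.lift_fst _ _ _).trans (Eq.symm ((Category.assoc _ _ _).trans
        ((congrArg (gr pF x ≫ ·) (AbDual22.bcIso_fst β (Over.mk f) TF)).trans ((Category.assoc _ _ _).symm.trans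
          (congrArg (· ≫ pullback.fst f β) (pullback.lift_fst _ _ _))))))
    · exact (pullback.lift_snd _ _ _).trans (Eq.symm ((Category.assoc _ _ _).trans
        ((congrArg (gr pF x ≫ ·) (AbDual22.bcIso_snd β (Over.mk f) TF)).trans (pullback.lift_snd _ _ _))))
  have hNcl : famCls f d hNf = down β f TF c' := by
    obtain ⟨i⟩ := hR
    have hIk := M2.isInvertible_idealMod _ (isEff_gr f xk)
    rw [show down β f TF c' = cy * down β f TF (grCls pF x) from map_mul _ _ _, ← hgrk, ← cls_rep cy]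
    show _ = PicGrp.cls (rep cy) (rep_inv cy) * PicGrp.cls _ hIk
    rw [AlgEquiv22.cls_tensor]
    exact (PicGrp.cls_eq_cls_iff _ _).2 ⟨i⟩
  have hlift : fm β (v ≫ e.hom) = lift xk (fm β (q ≫ w)) ≫ mu' := by
    rw [← hv, hfm', ← psi_app f hdim ψ' Nf hNf _ _ hNcl, ← hψy]
    exact hind
  -- conclusion
  let iB := (AbDual22.bcIso β (Over.mk f) (Over.mk t)).inv
  have hι : PicF.XTmap f (fm β w) = iB ≫ (lift xk (fm β (q ≫ w))).left := by
    rw [Iso.eq_inv_comp]
    have hz : PicF.XTmap f (fm β w) ≫ pullback.snd _ _ = pullback.snd _ _ ≫ (fm β w).left := pullback.lift_snd _ _ _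
    have l1 : (lift xk (fm β (q ≫ w))).left ≫ (fst (Over.mk f) Jg).left = xk.left := by
      rw [← Over.comp_left, lift_fst]
    have l2 : (lift xk (fm β (q ≫ w))).left ≫ (snd (Over.mk f) Jg).left = (fm β (q ≫ w)).left := by
      rw [← Over.comp_left, lift_snd]
    apply pullback.hom_ext
    · exact ((Category.assoc _ _ _).trans ((congrArg (_ ≫ ·) (HilbBC25.XTmap_fst f (fm β w))).trans
        (AbDual22.bcIso_fst β (Over.mk f) (Over.mk t)))).trans l1.symm
    · refine ((Category.assoc _ _ _).trans ((congrArg (_ ≫ ·) hz).trans ((Category.assoc _ _ _).symm.trans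
        (congrArg (· ≫ (fm β w).left) (AbDual22.bcIso_snd β (Over.mk f) (Over.mk t)))))).trans (Eq.trans ?_ l2.symm)
      rw [fm_comp]
      rfl
  rw [hι, Category.assoc, ← Over.comp_left, ← hlift]
  refine (pc_comp _ _ rfl _).symm.trans ?_
  show pc iB _ = pc iB c
  rw [← hvc, fm_left, Over.comp_left, Category.assoc]
  refine congrArg (pc iB) ?_
  rw [← PicGrp.pullHom_cls e.hom.left (M2.pullMul _) _ (PicLoc.isInvertible_pullback _ hΘi),
    ← PicGrp.pullHom_cls (pullback.fst J'.hom β) (M2.pullMul _) _ hΘi]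
  exact ((pc_comp _ _ rfl _).trans (pc_comp _ _ (Category.assoc _ _ _) _)).symm

end Groth.Agent.JacDeg22
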