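import Groth.Agent.Lib.JacDeg22.Iso
import Groth.Agent.Lib.JacForm22.ThetaBC
import Groth.Agent.Lib.AffStratVan4.Main

/-!
# The theta divisor under a finite separable extension of the ground field
-/

set_option autoImplicit false
set_option linter.style.haveILetI false
set_option linter.unusedSectionVars false
set_option backward.isDefEq.respectTransparency false
set_option backward.isDefEq.respectTransparency.types false
set_option maxHeartbeats 2000000
set_option synthInstance.maxHeartbeats 200000

universe u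

open CategoryTheory CategoryTheory.Limits AlgebraicGeometry TopologicalSpace Opposite MonoidalCategory
  CartesianMonoidalCategory MonObj
open scoped CategoryTheory.Obj

noncomputable section

namespace Groth.Agent.JacDeg22

open Groth.Agent.Abel10 (pc pc_comp pc_id)
open Groth.Agent.PicRep20
open Groth.Agent.JacBC22 (fK up down up_down down_up up_map down_map up_proj degCl_up pc_map_map CK)

noncomputable local instance instLawThetaBC (Y : Scheme.{u}) : PicGrp.Law Y := M2.law Y

variable {k : Type u} [Field k] {F : Type u} [Field F]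
  (β : Spec (CommRingCat.of F) ⟶ Spec (CommRingCat.of k))
  {X : Scheme.{u}} [X.Over (Spec (CommRingCat.of k))]
  [IsProper (X ↘ Spec (CommRingCat.of k))] [Smooth (X ↘ Spec (CommRingCat.of k))]
  [GeometricallyConnected (X ↘ Spec (CommRingCat.of k))] [IsIntegral X]
  [GeometricallyIrreducible (X ↘ Spec (CommRingCat.of k))] (hdim : topologicalKrullDim X = 1)
  [IsFinite β] [Etale β] {d : ℤ} {J : Over (Spec (CommRingCat.of k))}
  {ψ : (ModFun.PicDeg (X ↘ Spec (CommRingCat.of k)) d).Hom ⊤ J}
  [IsProper (CK β X ↘ Spec (CommRingCat.of F))] [Smooth (CK β X ↘ Spec (CommRingCat.of F))]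
  [GeometricallyConnected (CK β X ↘ Spec (CommRingCat.of F))] [IsIntegral (CK β X)]
  [GeometricallyIrreducible (CK β X ↘ Spec (CommRingCat.of F))] (hdimK : topologicalKrullDim (CK β X) = 1)
  {N : X.Modules} (hN : PicF.IsInvertible N)
  {ψF : (ModFun.PicDeg (CK β X ↘ Spec (CommRingCat.of F)) d).Hom ⊤ (Red.bc β J)}
  (hψF : ∀ T x (hx : (ModFun.PicDeg (CK β X ↘ Spec (CommRingCat.of F)) d).ok T x),
    ∃ hd, fm β (ψF.app T x trivial hx) =
      Psi (X ↘ Spec (CommRingCat.of k)) hdim ψ (down β (X ↘ Spec (CommRingCat.of k)) T (famCls _ d hx)) hd)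

include hψF hdimK hN in
/-- The jump locus over the larger field is the preimage of the jump locus. -/
theorem jumpLocus_eq :
    Jac.jumpLocus (CK β X ↘ Spec (CommRingCat.of F)) d ψF (JacForm22.Next β N) =
      (pullback.fst J.hom β) ⁻¹' Jac.jumpLocus (X ↘ Spec (CommRingCat.of k)) d ψ N := by
  let f := X ↘ Spec (CommRingCat.of k)
  let g := CK β X ↘ Spec (CommRingCat.of F)
  haveI : IsProper (fK β f) := ‹IsProper (CK β X ↘ Spec (CommRingCat.of F))›
  haveI : Smooth (fK β f) := ‹Smooth (CK β X ↘ Spec (CommRingCat.of F))›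
  haveI : GeometricallyConnected (fK β f) := ‹GeometricallyConnected (CK β X ↘ Spec (CommRingCat.of F))›
  haveI : GeometricallyIrreducible (fK β f) := ‹GeometricallyIrreducible (CK β X ↘ Spec (CommRingCat.of F))›
  have hfst : ∀ {T : Over (Spec (CommRingCat.of F))} (x : T ⟶ Red.bc β J), (fm β x).left = x.left ≫ pullback.fst J.hom β :=
    fun x => fm_left β x
  ext x
  constructor
  · rintro ⟨Ω, iF, iA, t, hP, L, hL, hQ, p, hp⟩
    obtain ⟨hd, hfm⟩ := hψF (Over.mk t) L hL
    obtain ⟨L', hL', hL'c⟩ := PicGrp.exists_eq_cls (down β f (Over.mk t) (famCls g d hL))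
    have hok : (ModFun.PicDeg f d).ok ((Over.map β).obj (Over.mk t)) L' := ok_of_class f hdim d hL' fun s => by
      rw [← PicGrp.cls_val L' hL', ← hL'c]
      exact hd s
    refine ⟨Ω, iF, iA, t ≫ β, trivial, L', hok, fun h => hQ ((JacForm22.sections_iff β hN _ hL' hL'c.symm).1 h), p, ?_⟩
    show (ψ.app ((Over.map β).obj (Over.mk t)) L' trivial hok).left p = _
    rw [psi_app f hdim ψ L' hok _ hd hL'c.symm, ← hfm, hfst, Scheme.Hom.comp_apply]
    exact congrArg _ hp
  · rintro ⟨Ω, iF, iA, s, hP, L, hL, hQ, p, hp⟩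
    let q := ψ.app (Over.mk s) L trivial hL
    change q.left p = pullback.fst J.hom β x at hp
    obtain ⟨y, hyq, hyx⟩ : ∃ y : Spec (CommRingCat.of Ω) ⟶ (Red.bc β J).left,
        y ≫ pullback.fst J.hom β = q.left ∧ y p = x := by
      haveI : IsFinite (pullback.fst J.hom β) := MorphismProperty.pullback_fst _ _ inferInstance
      obtain ⟨z, hz1, hz2⟩ := Scheme.Pullback.exists_preimage_pullback p x hp
      let Wo : Over (Spec (CommRingCat.of Ω)) := Over.mk (pullback.fst q.left (pullback.fst J.hom β))
      haveI : IsFinite Wo.hom := MorphismProperty.pullback_fst _ _ inferInstance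
      haveI : LocallyOfFiniteType Wo.hom := inferInstance
      haveI : DiscreteTopology Wo.left := by
        rw [← isDiscrete_univ_iff]
        haveI : Subsingleton (Spec (CommRingCat.of Ω)) := inferInstanceAs (Subsingleton (PrimeSpectrum Ω))
        have hd := Scheme.Hom.isDiscrete_preimage_singleton Wo.hom (Wo.hom z)
        rwa [show Wo.hom ⁻¹' {Wo.hom z} = Set.univ from Set.eq_univ_of_forall fun a => Subsingleton.elim (α := Spec (CommRingCat.of Ω)) _ _] at hd
      obtain ⟨w, hw⟩ := PtsDetect19.exists_point (k := Ω) (K := Ω) (W := Wo) z (isClosed_discrete _)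
      let w' : Spec (CommRingCat.of Ω) ⟶ pullback q.left (pullback.fst J.hom β) := w.left
      have hw1 : w' ≫ pullback.fst q.left (pullback.fst J.hom β) = 𝟙 _ := by
        refine (Over.w w).trans ?_
        show Spec.map (CommRingCat.ofHom (algebraMap Ω Ω)) = 𝟙 _
        simp
      refine ⟨w' ≫ pullback.snd _ _, ?_, ?_⟩
      · exact (Category.assoc _ _ _).trans ((congrArg (w' ≫ ·) pullback.condition.symm).trans
          ((Category.assoc _ _ _).symm.trans ((congrArg (· ≫ q.left) hw1).trans (Category.id_comp _))))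
      · rw [Scheme.Hom.comp_apply, show w' p = z from hw p]
        exact hz2
    obtain ⟨t, ht⟩ : ∃ t : Spec (CommRingCat.of Ω) ⟶ Spec (CommRingCat.of F), y ≫ (Red.bc β J).hom = t := ⟨_, rfl⟩
    have hs : t ≫ β = s := by
      rw [← ht]
      exact (Category.assoc _ _ _).trans ((congrArg (y ≫ ·) pullback.condition.symm).trans
        ((Category.assoc _ _ _).symm.trans ((congrArg (· ≫ J.hom) hyq).trans (Over.w q))))
    subst hs
    let yo : Over.mk t ⟶ Red.bc β J := Over.homMk y ht
    obtain ⟨L', hL', hL'c⟩ := PicGrp.exists_eq_cls (up β f (Over.mk t) (famCls f d hL))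
    have hdeg : ∀ r, PicTan20.degCl g (Over.mk t) r (PicGrp.cls L' hL').1 = d := fun r => by
      rw [← hL'c]
      exact (degCl_up β f hdim hdimK (Over.mk t) r (famCls f d hL)).trans (degCl_famCls f hdim d hL r)
    have hok : (ModFun.PicDeg g d).ok (Over.mk t) L' := ok_of_class g hdimK d hL' fun r => by
      rw [← PicGrp.cls_val L' hL']
      exact hdeg r
    obtain ⟨hd, hfm⟩ := hψF (Over.mk t) L' hok
    have hdl : down β f (Over.mk t) (famCls g d hok) = famCls f d hL := by
      rw [show famCls g d hok = up β f (Over.mk t) (famCls f d hL) from hL'c.symm, down_up]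
    have hy : ψF.app (Over.mk t) L' trivial hok = yo := by
      refine fm_injective β (hfm.trans ?_)
      rw [← psi_app f hdim ψ L hL _ hd hdl.symm]
      exact Over.OverMorphism.ext ((hfst yo).trans hyq).symm
    refine ⟨Ω, iF, iA, t, trivial, L', hok, fun h => hQ ((JacForm22.sections_iff β hN hL' _ hdl.symm).2 h), p, ?_⟩
    show (ψF.app (Over.mk t) L' trivial hok).left p = x
    rw [hy]
    exact hyx

include hψF hdimK hN in
/-- The theta bundle over the larger field. -/
theorem isThetaLB_bc {ΘJ : J.left.Modules} (hΘ : Jac.IsThetaLB (X ↘ Spec (CommRingCat.of k)) d ψ N ΘJ) :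
    Jac.IsThetaLB (CK β X ↘ Spec (CommRingCat.of F)) d ψF (JacForm22.Next β N)
      ((Scheme.Modules.pullback (pullback.fst J.hom β)).obj ΘJ) := by
  let π := pullback.fst J.hom β
  let vI := Scheme.IdealSheafData.vanishingIdeal
    (⟨Jac.thetaLocus (X ↘ Spec (CommRingCat.of k)) d ψ N, isClosed_closure⟩ : Closeds J.left)
  haveI : Etale π := MorphismProperty.pullback_fst _ _ inferInstance
  have hinv : BlowUp.IsEffCartierIdeal vI :=
    SecDiv.isEffCartierIdeal_of_isInvertible vI (by
      obtain ⟨e⟩ := hΘ.2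
      obtain ⟨D, hD, ⟨eD⟩⟩ := M2.exists_inverse hΘ.1
      exact M2.isInvertible_of_iso (M2.inverseUnique eD e) hD)
  have hE := BlowUp26.isEffCartierIdeal_comap_flat hinv π
  have hl : vI.comap π = Scheme.IdealSheafData.vanishingIdeal
      ⟨Jac.thetaLocus (CK β X ↘ Spec (CommRingCat.of F)) d ψF (JacForm22.Next β N), isClosed_closure⟩ := by
    refine (NodeBlow14.comap_vanishingIdeal π _).trans (congrArg _ (Closeds.ext ?_))
    show π ⁻¹' closure (Jac.jumpLocus _ d ψ N) = closure (Jac.jumpLocus _ d ψF (JacForm22.Next β N))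
    rw [jumpLocus_eq β hdim hdimK hN hψF]
    exact (Scheme.Hom.isOpenMap π).preimage_closure_eq_closure_preimage π.continuous _
  refine ⟨PicLoc.isInvertible_pullback π hΘ.1, ?_⟩
  show ClSub.IsInverseOf _ (ClSub.idealMod _)
  rw [← hl]
  refine (PicGrp.cls_mul_cls_eq_one_iff (PicLoc.isInvertible_pullback π hΘ.1) (M2.isInvertible_idealMod _ hE)).1 ?_
  rw [← PicGrp.pullHom_cls π (M2.pullMul π) ΘJ hΘ.1]
  show pc π _ * _ = 1
  rw [← Riemann22.cls_comap π hinv hE, ← map_mul, (PicGrp.cls_mul_cls_eq_one_iff hΘ.1 _).2 hΘ.2, map_one]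

end Groth.Agent.JacDeg22
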