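import Groth.Agent.Lib.JacDeg22.ThetaBC
import Groth.Agent.Lib.JacBC22.Theta

/-!
# Picard schemes of different degrees of a curve with a base point
-/

set_option autoImplicit false
set_option linter.style.haveILetI false
set_option linter.unusedSectionVars false
set_option backward.isDefEq.respectTransparency false
set_option backward.isDefEq.respectTransparency.types false
set_option maxHeartbeats 2000000
set_option synthInstance.maxHeartbeats 200000

universe u

open CategoryTheory CategoryTheory.Limits AlgebraicGeometry TopologicalSpace Opposite MonoidalCategory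
  CartesianMonoidalCategory MonObj

noncomputable section

namespace Groth.Agent.JacDeg22

open Groth.Agent.Abel10 (pc pc_comp pc_id)
open Groth.Agent.PicRep20

noncomputable local instance instLawTranslate (Y : Scheme.{u}) : PicGrp.Law Y := M2.law Y

variable {k : Type u} [Field k] {X : Scheme.{u}} [X.Over (Spec (CommRingCat.of k))]
  [IsProper (X ↘ Spec (CommRingCat.of k))] [Smooth (X ↘ Spec (CommRingCat.of k))]
  [GeometricallyConnected (X ↘ Spec (CommRingCat.of k))] [IsIntegral X]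
  [GeometricallyIrreducible (X ↘ Spec (CommRingCat.of k))] (hdim : topologicalKrullDim X = 1)
  (σ : Spec (CommRingCat.of k) ⟶ X) (hσ : σ ≫ (X ↘ Spec (CommRingCat.of k)) = 𝟙 _) (d : ℤ)

/-- A class of degree `d` on the curve. -/
def degGen : PicLoc.PicSet X := (Abel10.ptCls hdim σ hσ) ^ (-d)

/-- The constant family of a class. -/
abbrev cst (T : Over (Spec (CommRingCat.of k))) : PicLoc.PicSet X →* PicLoc.PicSet (PicF.XT (X ↘ Spec (CommRingCat.of k)) T) :=
  pc (pullback.fst (X ↘ Spec (CommRingCat.of k)) T.hom)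

theorem cst_map {T T' : Over (Spec (CommRingCat.of k))} (g : T' ⟶ T) (a : PicLoc.PicSet X) :
    pc (PicF.XTmap (X ↘ Spec (CommRingCat.of k)) g) (cst T a) = cst T' a :=
  pc_comp _ _ (HilbBC25.XTmap_fst (X ↘ Spec (CommRingCat.of k)) g) a

theorem degCl_degGen (T : Over (Spec (CommRingCat.of k))) (t : T.left) :
    PicTan20.degCl (X ↘ Spec (CommRingCat.of k)) T t (cst T (degGen hdim σ hσ d)).1 = d := by
  have hpow : ∀ (c : PicLoc.PicSet (PicF.XT (X ↘ Spec (CommRingCat.of k)) T)) (m : ℤ),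
      PicTan20.degCl (X ↘ Spec (CommRingCat.of k)) T t (c ^ m).1 =
        m * PicTan20.degCl (X ↘ Spec (CommRingCat.of k)) T t c.1 := by
    intro c m
    cases m with
    | ofNat n => rw [Int.ofNat_eq_natCast, zpow_natCast, degCl_pow _ hdim]
    | negSucc n => rw [zpow_negSucc, degCl_inv _ hdim, degCl_pow _ hdim, Int.negSucc_eq]; push_cast; ring
  rw [cst, degGen, map_zpow, hpow, degCl_ptCls _ hdim σ hσ T t]
  ring

theorem deg_shift {T : Over (Spec (CommRingCat.of k))} {c : PicLoc.PicSet (PicF.XT (X ↘ Spec (CommRingCat.of k)) T)}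
    (hc : ∀ t, PicTan20.degCl (X ↘ Spec (CommRingCat.of k)) T t c.1 = 0) :
    ∀ t, PicTan20.degCl (X ↘ Spec (CommRingCat.of k)) T t (c * cst T (degGen hdim σ hσ d)).1 = d := fun t => by
  rw [PicTan20.degCl_mul _ (fiber_dim _ hdim), hc, degCl_degGen, zero_add]

theorem deg_unshift {T : Over (Spec (CommRingCat.of k))} {c : PicLoc.PicSet (PicF.XT (X ↘ Spec (CommRingCat.of k)) T)}
    (hc : ∀ t, PicTan20.degCl (X ↘ Spec (CommRingCat.of k)) T t c.1 = d) :
    ∀ t, PicTan20.degCl (X ↘ Spec (CommRingCat.of k)) T t (c * (cst T (degGen hdim σ hσ d))⁻¹).1 = 0 := fun t => by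
  rw [PicTan20.degCl_mul _ (fiber_dim _ hdim), degCl_inv _ hdim, hc, degCl_degGen, add_neg_cancel]

variable {J₀ : Over (Spec (CommRingCat.of k))} {ξ₀ : PicLoc.PicSet (PicF.XT (X ↘ Spec (CommRingCat.of k)) J₀)}
  (hξ₀ : IsUnivClass (X ↘ Spec (CommRingCat.of k)) 0 J₀ ξ₀)

include hξ₀ in
/-- A universal class of degree `d` from one of degree zero. -/
theorem isUnivClass_shift :
    IsUnivClass (X ↘ Spec (CommRingCat.of k)) d J₀ (ξ₀ * cst J₀ (degGen hdim σ hσ d)) := by
  refine ⟨deg_shift hdim σ hσ d hξ₀.1, fun T c hc => ?_⟩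
  obtain ⟨g, ⟨m, hm⟩, hg⟩ := hξ₀.2 T _ (deg_unshift hdim σ hσ d hc)
  refine ⟨g, ⟨m, ?_⟩, fun g' ⟨m', hm'⟩ => hg g' ⟨m', ?_⟩⟩
  · rw [map_mul, cst_map, mul_right_comm, ← hm, inv_mul_cancel_right]
  · rw [hm', map_mul, cst_map, mul_right_comm, mul_inv_cancel_right]

variable {ψ₀ : (ModFun.PicDeg (X ↘ Spec (CommRingCat.of k)) 0).Hom ⊤ J₀}
  (hψ₀ : ∀ (T : Over (Spec (CommRingCat.of k))) (x : (ModFun.PicDeg (X ↘ Spec (CommRingCat.of k)) 0).Fam T)
    (hx : (ModFun.PicDeg (X ↘ Spec (CommRingCat.of k)) 0).ok T x),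
    ψ₀.app T x trivial hx = classify hξ₀ (famCls _ 0 hx) (degCl_famCls _ hdim 0 hx))
  {J' : Over (Spec (CommRingCat.of k))} {ψ' : (ModFun.PicDeg (X ↘ Spec (CommRingCat.of k)) d).Hom ⊤ J'}
  {ξ' : PicLoc.PicSet (PicF.XT (X ↘ Spec (CommRingCat.of k)) J')}
  (hξ' : IsUnivClass (X ↘ Spec (CommRingCat.of k)) d J' ξ')
  (hψ' : ∀ (T : Over (Spec (CommRingCat.of k))) (x : (ModFun.PicDeg (X ↘ Spec (CommRingCat.of k)) d).Fam T)
    (hx : (ModFun.PicDeg (X ↘ Spec (CommRingCat.of k)) d).ok T x),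
    ψ'.app T x trivial hx = classify hξ' (famCls _ d hx) (degCl_famCls _ hdim d hx))

include hψ₀ hψ' in
/-- Translation identifies the theta bundles. -/
theorem exists_translate {Θ' : J'.left.Modules}
    (hΘ' : Jac.IsThetaLB (X ↘ Spec (CommRingCat.of k)) d ψ' (Coh.structureModule X) Θ')
    {N : X.Modules} (hN : PicF.IsInvertible N) (hNc : PicGrp.cls N hN = degGen hdim σ hσ d) :
    ∃ e : J₀ ≅ J', Jac.IsThetaLB (X ↘ Spec (CommRingCat.of k)) 0 ψ₀ N ((Scheme.Modules.pullback e.hom.left).obj Θ') := by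
  let f := X ↘ Spec (CommRingCat.of k)
  let a := degGen hdim σ hσ d
  let ξd := ξ₀ * cst J₀ a
  have hξd : IsUnivClass f d J₀ ξd := isUnivClass_shift hdim σ hσ d hξ₀
  let u : J₀ ⟶ J' := classify hξ' ξd hξd.1
  let v : J' ⟶ J₀ := classify hξd ξ' hξ'.1
  obtain ⟨mu, hmu⟩ := classify_spec hξ' ξd hξd.1
  obtain ⟨mv, hmv⟩ := classify_spec hξd ξ' hξ'.1
  have huv : u ≫ v = 𝟙 J₀ := by
    rw [eq_classify hξd ξd hξd.1 (𝟙 J₀) (m := 1) (by rw [HilbBC25.XTmap_id, pc_id, map_one, _root_.mul_one])]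
    refine eq_classify hξd ξd hξd.1 (u ≫ v) (m := pc u.left mv * mu) ?_
    rw [← JacBC22.pc_map_map f u v, map_mul (pc (PicF.XTproj f J₀)), ← PicRep20.pc_proj_map (f := f) u mv, ← _root_.mul_assoc, ← map_mul, ← hmv]
    exact hmu
  have hvu : v ≫ u = 𝟙 J' := by
    rw [eq_classify hξ' ξ' hξ'.1 (𝟙 J') (m := 1) (by rw [HilbBC25.XTmap_id, pc_id, map_one, _root_.mul_one])]
    refine eq_classify hξ' ξ' hξ'.1 (v ≫ u) (m := pc v.left mu * mv) ?_
    rw [← JacBC22.pc_map_map f v u, map_mul (pc (PicF.XTproj f J')), ← PicRep20.pc_proj_map (f := f) v mu, ← _root_.mul_assoc, ← map_mul, ← hmu]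
    exact hmv
  let e : J₀ ≅ J' := ⟨u, v, huv, hvu⟩
  have key : ∀ (T : Over (Spec (CommRingCat.of k))) (L L' : (PicF.XT f T).Modules) (hL : (ModFun.PicDeg f 0).ok T L)
      (hL' : (ModFun.PicDeg f d).ok T L'), famCls f d hL' = famCls f 0 hL * cst T a →
      ψ'.app T L' trivial hL' = ψ₀.app T L trivial hL ≫ u := by
    intro T L L' hL hL' h
    rw [hψ₀, hψ']
    obtain ⟨m, hm⟩ := classify_spec hξ₀ (famCls f 0 hL) (degCl_famCls f hdim 0 hL)
    refine (eq_classify hξ' _ _ _ (m := pc (classify hξ₀ (famCls f 0 hL) (degCl_famCls f hdim 0 hL)).left mu * m) ?_).symm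
    rw [← JacBC22.pc_map_map f _ u, map_mul (pc (PicF.XTproj f T)), ← PicRep20.pc_proj_map (f := f) _ mu, ← _root_.mul_assoc, ← map_mul, ← hmu, map_mul,
      cst_map, mul_right_comm, ← hm]
    exact h
  have hsec : ∀ {Ω : Type u} [Field Ω] (s : Spec (CommRingCat.of Ω) ⟶ Spec (CommRingCat.of k))
      (L L' : (PicF.XT f (Over.mk s)).Modules) (hL : (ModFun.PicDeg f 0).ok (Over.mk s) L)
      (hL' : (ModFun.PicDeg f d).ok (Over.mk s) L'), famCls f d hL' = famCls f 0 hL * cst (Over.mk s) a →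
      (Subsingleton (Coh.HH (PicF.XT f (Over.mk s)) (CohB1.tensorMod L ((Scheme.Modules.pullback (pullback.fst f s)).obj N)) 0) ↔
        Subsingleton (Coh.HH (PicF.XT f (Over.mk s))
          (CohB1.tensorMod L' ((Scheme.Modules.pullback (pullback.fst f s)).obj (Coh.structureModule X))) 0)) := by
    intro Ω _ s L L' hL hL' h
    have hLi := (M2.isInvertible_iff_isFinLocFreeOfRank_one L).2 hL.1.2
    have hL'i := (M2.isInvertible_iff_isFinLocFreeOfRank_one L').2 hL'.1.2
    have hNs := PicLoc.isInvertible_pullback (pullback.fst f s) hN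
    have hOs := PicLoc.isInvertible_pullback (pullback.fst f s) (PicLoc.isInvertible_structureModule X)
    have hc : PicGrp.cls _ (M2.isInvertible_tensor hLi hNs) = PicGrp.cls _ (M2.isInvertible_tensor hL'i hOs) := by
      rw [← AlgEquiv22.cls_tensor hLi hNs, ← AlgEquiv22.cls_tensor hL'i hOs,
        ← PicGrp.pullHom_cls (pullback.fst f s) (M2.pullMul _) N hN, hNc,
        ← PicGrp.pullHom_cls (pullback.fst f s) (M2.pullMul _) _ (PicLoc.isInvertible_structureModule X),
        PicGrp.cls_structureModule_eq_one, map_one, _root_.mul_one]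
      exact h.symm
    obtain ⟨i⟩ := (PicGrp.cls_eq_cls_iff _ _).1 hc
    exact ⟨fun h => AffStratVan4.subsingleton_HH_congr i 0 h, fun h => AffStratVan4.subsingleton_HH_congr i.symm 0 h⟩
  have hjump : Jac.jumpLocus f 0 ψ₀ N = u.left ⁻¹' Jac.jumpLocus f d ψ' (Coh.structureModule X) := by
    ext x
    constructor
    · rintro ⟨Ω, iF, iA, s, hP, L, hL, hQ, p, hp⟩
      obtain ⟨L', hL', hL'c⟩ := PicGrp.exists_eq_cls (famCls f 0 hL * cst (Over.mk s) a)
      have hok : (ModFun.PicDeg f d).ok (Over.mk s) L' := ok_of_class f hdim d hL' fun r => by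
        rw [← PicGrp.cls_val L' hL', ← hL'c]
        exact deg_shift hdim σ hσ d (degCl_famCls f hdim 0 hL) r
      refine ⟨Ω, iF, iA, s, trivial, L', hok, fun h => hQ ((hsec s L L' hL hok hL'c.symm).2 h), p, ?_⟩
      show (ψ'.app (Over.mk s) L' trivial hok).left p = u.left x
      rw [key _ L L' hL hok hL'c.symm, Over.comp_left, Scheme.Hom.comp_apply]
      exact congrArg _ hp
    · rintro ⟨Ω, iF, iA, s, hP, L', hL', hQ, p, hp⟩
      obtain ⟨L, hL, hLc⟩ := PicGrp.exists_eq_cls (famCls f d hL' * (cst (Over.mk s) a)⁻¹)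
      have hok : (ModFun.PicDeg f 0).ok (Over.mk s) L := ok_of_class f hdim 0 hL fun r => by
        rw [← PicGrp.cls_val L hL, ← hLc]
        exact deg_unshift hdim σ hσ d (degCl_famCls f hdim d hL') r
      have h : famCls f d hL' = famCls f 0 hok * cst (Over.mk s) a := by
        rw [show famCls f 0 hok = _ from hLc.symm, inv_mul_cancel_right]
      refine ⟨Ω, iF, iA, s, trivial, L, hok, fun h' => hQ ((hsec s L L' hok hL' h).1 h'), p, ?_⟩
      haveI : IsIso u := ⟨v, huv, hvu⟩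
      haveI : IsIso u.left := inferInstanceAs (IsIso ((Over.forget _).map u))
      refine u.left.homeomorph.injective ?_
      show u.left ((ψ₀.app (Over.mk s) L trivial hok).left p) = u.left x
      rw [← Scheme.Hom.comp_apply, ← Over.comp_left, ← key _ L L' hok hL' h]
      exact hp
  haveI : IsIso u := ⟨v, huv, hvu⟩
  haveI : IsIso u.left := inferInstanceAs (IsIso ((Over.forget _).map u))
  let vI := Scheme.IdealSheafData.vanishingIdeal
    (⟨Jac.thetaLocus f d ψ' (Coh.structureModule X), isClosed_closure⟩ : Closeds J'.left)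
  have hinv : BlowUp.IsEffCartierIdeal vI :=
    SecDiv.isEffCartierIdeal_of_isInvertible vI (by
      obtain ⟨i⟩ := hΘ'.2
      obtain ⟨D, hD, ⟨eD⟩⟩ := M2.exists_inverse hΘ'.1
      exact M2.isInvertible_of_iso (M2.inverseUnique eD i) hD)
  have hE := BlowUp26.isEffCartierIdeal_comap_flat hinv u.left
  have hl : vI.comap u.left = Scheme.IdealSheafData.vanishingIdeal
      ⟨Jac.thetaLocus f 0 ψ₀ N, isClosed_closure⟩ := by
    refine (NodeBlow14.comap_vanishingIdeal u.left _).trans (congrArg _ (Closeds.ext ?_))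
    show u.left ⁻¹' closure (Jac.jumpLocus _ d ψ' _) = closure (Jac.jumpLocus _ 0 ψ₀ N)
    rw [hjump]
    exact u.left.homeomorph.preimage_closure _
  refine ⟨e, PicLoc.isInvertible_pullback u.left hΘ'.1, ?_⟩
  show ClSub.IsInverseOf _ (ClSub.idealMod _)
  rw [← hl]
  refine (PicGrp.cls_mul_cls_eq_one_iff (PicLoc.isInvertible_pullback u.left hΘ'.1) (M2.isInvertible_idealMod _ hE)).1 ?_
  rw [← PicGrp.pullHom_cls u.left (M2.pullMul u.left) Θ' hΘ'.1]
  show pc u.left _ * _ = 1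
  rw [← Riemann22.cls_comap u.left hinv hE, ← map_mul, (PicGrp.cls_mul_cls_eq_one_iff hΘ'.1 _).2 hΘ'.2, map_one]

end Groth.Agent.JacDeg22

section Congr

open Groth.Agent.PicRep20

variable {k : Type u} [Field k] {X : Scheme.{u}}

/-- The jump locus only depends on the twisting module up to isomorphism. -/
theorem Groth.Agent.JacDeg22.jumpLocus_congr (f : X ⟶ Spec (CommRingCat.of k)) (d : ℤ)
    {J : Over (Spec (CommRingCat.of k))} (ψ : (ModFun.PicDeg f d).Hom ⊤ J) {N N' : X.Modules} (i : N ≅ N') :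
    Jac.jumpLocus f d ψ N = Jac.jumpLocus f d ψ N' := by
  have key : ∀ {A B : X.Modules} (i : A ≅ B), Jac.jumpLocus f d ψ A ⊆ Jac.jumpLocus f d ψ B := by
    rintro A B i x ⟨Ω, iF, iA, t, hP, L, hL, hQ, hp⟩
    refine ⟨Ω, iF, iA, t, hP, L, hL, fun h => hQ ?_, hp⟩
    exact Groth.Agent.AffStratVan4.subsingleton_HH_congr
      (Groth.Agent.M2.tensorIso (Iso.refl (show (PicF.XT f (Over.mk t)).Modules from L)) ((Scheme.Modules.pullback (pullback.fst f t)).mapIso i.symm)) 0 h
  exact Set.Subset.antisymm (key i) (key i.symm)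

end Congr
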