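import Groth.Agent.Lib.JacDeg22.Translate
import Groth.Agent.Lib.JacBC22.Theta

/-!
# Picard schemes of different degrees of a curve with a base point
-/

set_option autoImplicit false
set_option linter.style.haveILetI false
set_option linter.unusedSectionVars false
set_option backward.isDefEq.respectTransparency false
set_option backward.isDefEq.respectTransparency.types false
set_option maxHeartbeats 2000000
set_option synthInstance.maxHeartbeats 200000

universe u

open CategoryTheory CategoryTheory.Limits AlgebraicGeometry TopologicalSpace Opposite MonoidalCategory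
  CartesianMonoidalCategory MonObj

noncomputable section

namespace Groth.Agent.JacDeg22

open Groth.Agent.Abel10 (pc pc_comp pc_id)
open Groth.Agent.PicRep20

noncomputable local instance instLawUnivIso (Y : Scheme.{u}) : PicGrp.Law Y := M2.law Y

variable {k : Type u} [Field k] {X : Scheme.{u}} [X.Over (Spec (CommRingCat.of k))]
  [IsProper (X ↘ Spec (CommRingCat.of k))] [Smooth (X ↘ Spec (CommRingCat.of k))]
  [GeometricallyConnected (X ↘ Spec (CommRingCat.of k))] [IsIntegral X]
  [GeometricallyIrreducible (X ↘ Spec (CommRingCat.of k))] (hdim : topologicalKrullDim X = 1)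
  (σ : Spec (CommRingCat.of k) ⟶ X) (hσ : σ ≫ (X ↘ Spec (CommRingCat.of k)) = 𝟙 _) (d : ℤ)

variable {J₀ : Over (Spec (CommRingCat.of k))} {ξ₀ : PicLoc.PicSet (PicF.XT (X ↘ Spec (CommRingCat.of k)) J₀)}
  (hξ₀ : IsUnivClass (X ↘ Spec (CommRingCat.of k)) 0 J₀ ξ₀)

variable {J' : Over (Spec (CommRingCat.of k))} {ξ' : PicLoc.PicSet (PicF.XT (X ↘ Spec (CommRingCat.of k)) J')}
  (hξ' : IsUnivClass (X ↘ Spec (CommRingCat.of k)) d J' ξ')

include hdim hσ hξ₀ hξ' in
/-- Schemes with universal classes are isomorphic. -/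
theorem univ_iso : Nonempty (J₀ ≅ J') := by
  let f := X ↘ Spec (CommRingCat.of k)
  let a := degGen hdim σ hσ d
  let ξd := ξ₀ * cst J₀ a
  have hξd : IsUnivClass f d J₀ ξd := isUnivClass_shift hdim σ hσ d hξ₀
  let u : J₀ ⟶ J' := classify hξ' ξd hξd.1
  let v : J' ⟶ J₀ := classify hξd ξ' hξ'.1
  obtain ⟨mu, hmu⟩ := classify_spec hξ' ξd hξd.1
  obtain ⟨mv, hmv⟩ := classify_spec hξd ξ' hξ'.1
  have huv : u ≫ v = 𝟙 J₀ := by
    rw [eq_classify hξd ξd hξd.1 (𝟙 J₀) (m := 1) (by rw [HilbBC25.XTmap_id, pc_id, map_one, _root_.mul_one])]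
    refine eq_classify hξd ξd hξd.1 (u ≫ v) (m := pc u.left mv * mu) ?_
    rw [← JacBC22.pc_map_map f u v, map_mul (pc (PicF.XTproj f J₀)), ← PicRep20.pc_proj_map (f := f) u mv, ← _root_.mul_assoc, ← map_mul, ← hmv]
    exact hmu
  have hvu : v ≫ u = 𝟙 J' := by
    rw [eq_classify hξ' ξ' hξ'.1 (𝟙 J') (m := 1) (by rw [HilbBC25.XTmap_id, pc_id, map_one, _root_.mul_one])]
    refine eq_classify hξ' ξ' hξ'.1 (v ≫ u) (m := pc v.left mu * mv) ?_
    rw [← JacBC22.pc_map_map f v u, map_mul (pc (PicF.XTproj f J')), ← PicRep20.pc_proj_map (f := f) v mu, ← _root_.mul_assoc, ← map_mul, ← hmu]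
    exact hmv
  let e : J₀ ≅ J' := ⟨u, v, huv, hvu⟩
  exact ⟨e⟩

end Groth.Agent.JacDeg22
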